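import Groth.Agent.Lift.K696.Thk

/-!
# Derivations on opens and differences of morphisms with the same reduction

`DerOn g q M U` : derivations `O_Y → M` along `g : X₀ ⟶ Y`, relative to `q : Y ⟶ S`, on the opens contained in
`U`, as families `Γ(Y, V) → Γ(M, W)`, `W ≤ U ⊓ g ⁻¹ V`.

For a thickening `T` of `U` with kernel `M` and two morphisms `h h' : T.X ⟶ Y` over `S` reducing to `g`,
`diff K h h'` is a derivation, zero iff `h = h'`, additive; for a derivation `δ` there is a morphism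
`add K h δ` with `diff (add K h δ) h = δ`.
-/

set_option autoImplicit false
universe u

open CategoryTheory CategoryTheory.Limits AlgebraicGeometry Opposite TopologicalSpace
open Groth.Agent.Sga67.Sec (Sec res resO res_res resO_resO res_self resO_self res_smul
  eq_of_locally eqO_of_locally)
open K696.Base K696.Thk

namespace K696.Diff

variable {X₀ Y S : Scheme.{u}}

/-- Derivations `O_Y → M` along `g`, relative to `q`, on the opens contained in `U`. -/
@[ext]
structure DerOn (g : X₀ ⟶ Y) (q : Y ⟶ S) (M : X₀.Modules) (U : X₀.Opens) where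
  app : ∀ {V : Y.Opens} {W : X₀.Opens}, W ≤ U → W ≤ g ⁻¹ᵁ V → (Γ(Y, V) →+ Sec M W)
  res_app : ∀ {V V' : Y.Opens} {W W' : X₀.Opens} (hU : W ≤ U) (hV : W ≤ g ⁻¹ᵁ V) (hW : W' ≤ W)
    (hV' : V' ≤ V) (h' : W' ≤ g ⁻¹ᵁ V') (a : Γ(Y, V)),
    app (hW.trans hU) h' (resO Y hV' a) = res M hW (app hU hV a)
  leib : ∀ {V : Y.Opens} {W : X₀.Opens} (hU : W ≤ U) (hV : W ≤ g ⁻¹ᵁ V) (a b : Γ(Y, V)),
    app hU hV (a * b) = ev g hV a • app hU hV b + ev g hV b • app hU hV a
  kill : ∀ {V : Y.Opens} {W : X₀.Opens} (hU : W ≤ U) (hV : W ≤ g ⁻¹ᵁ V) {Z : S.Opens}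
    (hZ : V ≤ q ⁻¹ᵁ Z) (c : Γ(S, Z)), app hU hV (ev q hZ c) = 0

namespace DerOn

variable {g : X₀ ⟶ Y} {q : Y ⟶ S} {M : X₀.Modules} {U : X₀.Opens}

theorem ext' {D D' : DerOn g q M U} (h : ∀ (V : Y.Opens) (W : X₀.Opens) (hU : W ≤ U)
    (hV : W ≤ g ⁻¹ᵁ V) (a : Γ(Y, V)), D.app hU hV a = D'.app hU hV a) : D = D' := by
  ext V W hU hV a
  exact h V W hU hV a

instance : Zero (DerOn g q M U) := ⟨
  { app := fun _ _ => 0
    res_app := fun _ _ _ _ _ _ => by simp
    leib := fun _ _ _ _ => by simp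
    kill := fun _ _ _ _ _ => rfl }⟩

@[simp] theorem zero_app {V : Y.Opens} {W : X₀.Opens} (hU : W ≤ U) (hV : W ≤ g ⁻¹ᵁ V)
    (a : Γ(Y, V)) : (0 : DerOn g q M U).app hU hV a = 0 := rfl

instance : Add (DerOn g q M U) := ⟨fun D D' =>
  { app := fun hU hV => D.app hU hV + D'.app hU hV
    res_app := fun hU hV hW hV' h' a => by
      rw [AddMonoidHom.add_apply, AddMonoidHom.add_apply, map_add, D.res_app hU hV hW hV' h',
        D'.res_app hU hV hW hV' h']
    leib := fun hU hV a b => by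
      rw [AddMonoidHom.add_apply, AddMonoidHom.add_apply, AddMonoidHom.add_apply, D.leib hU hV,
        D'.leib hU hV, smul_add, smul_add]; abel
    kill := by
      intro V W hU hV Z hZ c
      rw [AddMonoidHom.add_apply, D.kill hU hV hZ, D'.kill hU hV hZ, add_zero] }⟩

@[simp] theorem add_app (D D' : DerOn g q M U) {V : Y.Opens} {W : X₀.Opens} (hU : W ≤ U)
    (hV : W ≤ g ⁻¹ᵁ V) (a : Γ(Y, V)) : (D + D').app hU hV a = D.app hU hV a + D'.app hU hV a := rfl

instance : Neg (DerOn g q M U) := ⟨fun D =>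
  { app := fun hU hV => - D.app hU hV
    res_app := fun hU hV hW hV' h' a => by
      rw [AddMonoidHom.neg_apply, AddMonoidHom.neg_apply, map_neg, D.res_app hU hV hW hV' h']
    leib := fun hU hV a b => by
      rw [AddMonoidHom.neg_apply, AddMonoidHom.neg_apply, AddMonoidHom.neg_apply, D.leib hU hV,
        smul_neg, smul_neg]; abel
    kill := by
      intro V W hU hV Z hZ c
      rw [AddMonoidHom.neg_apply, D.kill hU hV hZ, neg_zero] }⟩

@[simp] theorem neg_app (D : DerOn g q M U) {V : Y.Opens} {W : X₀.Opens} (hU : W ≤ U)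
    (hV : W ≤ g ⁻¹ᵁ V) (a : Γ(Y, V)) : (-D).app hU hV a = - D.app hU hV a := rfl

instance : AddCommGroup (DerOn g q M U) where
  add_assoc a b c := by ext; simp [add_assoc]
  zero_add a := by ext; simp
  add_zero a := by ext; simp
  nsmul := nsmulRec
  zsmul := zsmulRec
  neg_add_cancel a := by ext; simp
  add_comm a b := by ext; simp [add_comm]

@[simp] theorem sub_app (D D' : DerOn g q M U) {V : Y.Opens} {W : X₀.Opens} (hU : W ≤ U)
    (hV : W ≤ g ⁻¹ᵁ V) (a : Γ(Y, V)) : (D - D').app hU hV a = D.app hU hV a - D'.app hU hV a := by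
  rw [sub_eq_add_neg, add_app, neg_app, ← sub_eq_add_neg]

/-- Restriction. -/
def rs {U' : X₀.Opens} (h : U' ≤ U) (D : DerOn g q M U) : DerOn g q M U' where
  app hU hV := D.app (hU.trans h) hV
  res_app _ hV hW hV' h' a := D.res_app _ hV hW hV' h' a
  leib _ hV a b := D.leib _ hV a b
  kill := by
    intro V W hU hV Z hZ c
    exact D.kill _ hV hZ c

@[simp] theorem rs_app {U' : X₀.Opens} (h : U' ≤ U) (D : DerOn g q M U) {V : Y.Opens}
    {W : X₀.Opens} (hU : W ≤ U') (hV : W ≤ g ⁻¹ᵁ V) (a : Γ(Y, V)) :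
    (D.rs h).app hU hV a = D.app (hU.trans h) hV a := rfl

theorem app_one (D : DerOn g q M U) {V : Y.Opens} {W : X₀.Opens} (hU : W ≤ U) (hV : W ≤ g ⁻¹ᵁ V) :
    D.app hU hV 1 = 0 := by
  have h := D.leib hU hV 1 1
  rw [mul_one, map_one (ev g hV), one_smul] at h
  exact (left_eq_add.mp h)

end DerOn

variable {g : X₀ ⟶ Y} {q : Y ⟶ S} {M : X₀.Modules} {U : X₀.Opens} {T : Th U} (K : Kap T M)

section diff

variable (h h' : T.X ⟶ Y) (w : T.j ≫ h = U.ι ≫ g) (w' : T.j ≫ h' = U.ι ≫ g) (e : h ≫ q = h' ≫ q)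

include w w' in
theorem π_ev_eq {V : Y.Opens} {W : X₀.Opens} (hU : W ≤ U) (hV : W ≤ g ⁻¹ᵁ V) (a : Γ(Y, V)) :
    T.π hU (ev h (T.le_of_le h g w hV) a) = T.π hU (ev h' (T.le_of_le h' g w' hV) a) := by
  rw [T.π_ev h g w hU hV, T.π_ev h' g w' hU hV]

/-- The difference on sections. -/
noncomputable def difHom {V : Y.Opens} {W : X₀.Opens} (hU : W ≤ U) (hV : W ≤ g ⁻¹ᵁ V) :
    Γ(Y, V) →+ Sec M W where
  toFun a := K.dif hU (ev h (T.le_of_le h g w hV) a) (ev h' (T.le_of_le h' g w' hV) a)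
    (π_ev_eq h h' w w' hU hV a)
  map_zero' := by
    apply K.κ_injective hU
    rw [K.κ_dif]
    simp
  map_add' a b := by
    apply K.κ_injective hU
    rw [map_add (K.κ hU), K.κ_dif, K.κ_dif, K.κ_dif, map_add, map_add]
    ring

theorem κ_difHom {V : Y.Opens} {W : X₀.Opens} (hU : W ≤ U) (hV : W ≤ g ⁻¹ᵁ V) (a : Γ(Y, V)) :
    K.κ hU (difHom K h h' w w' hU hV a) =
      ev h (T.le_of_le h g w hV) a - ev h' (T.le_of_le h' g w' hV) a :=
  K.κ_dif hU _ _ (π_ev_eq h h' w w' hU hV a)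

/-- The difference `h - h'` of two morphisms with the same reduction, as a derivation. -/
noncomputable def diff : DerOn g q M U where
  app {V W} hU hV := difHom K h h' w w' hU hV
  res_app {V V' W W'} hU hV hW hV' h1 a := by
    apply K.κ_injective (hW.trans hU)
    rw [← K.res_κ hU hW, κ_difHom, κ_difHom, map_sub, res_ev, res_ev, ev_res, ev_res]
  leib {V W} hU hV a b := by
    apply K.κ_injective hU
    rw [map_add (K.κ hU), κ_difHom, ← T.π_ev h g w hU hV (T.le_of_le h g w hV) a,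
      ← T.π_ev h' g w' hU hV (T.le_of_le h' g w' hV) b, K.smul, K.smul,
      κ_difHom, κ_difHom, map_mul, map_mul]
    ring
  kill := by
    intro V W hU hV Z hZ c
    apply K.κ_injective hU
    rw [κ_difHom, map_zero (K.κ hU), sub_eq_zero]
    rw [ev_comp h q hZ _ ((T.le_of_le h g w hV).trans (h.preimage_mono hZ)),
      ev_comp h' q hZ _ ((T.le_of_le h' g w' hV).trans (h'.preimage_mono hZ)), ev_congr e]

theorem κ_diff {V : Y.Opens} {W : X₀.Opens} (hU : W ≤ U) (hV : W ≤ g ⁻¹ᵁ V) (a : Γ(Y, V)) :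
    K.κ hU ((diff K h h' w w' e).app hU hV a) =
      ev h (T.le_of_le h g w hV) a - ev h' (T.le_of_le h' g w' hV) a :=
  κ_difHom K h h' w w' hU hV a

theorem diff_self : diff K h h w w (rfl : h ≫ q = h ≫ q) = 0 := by
  apply DerOn.ext'
  intro V W hU hV a
  apply K.κ_injective hU
  rw [κ_diff, sub_self, DerOn.zero_app, map_zero]

theorem diff_add (h'' : T.X ⟶ Y) (w'' : T.j ≫ h'' = U.ι ≫ g) (e' : h' ≫ q = h'' ≫ q) :
    diff K h h' w w' e + diff K h' h'' w' w'' e' = diff K h h'' w w'' (e.trans e') := by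
  apply DerOn.ext'
  intro V W hU hV a
  apply K.κ_injective hU
  rw [DerOn.add_app, map_add, κ_diff, κ_diff, κ_diff]
  ring

theorem diff_symm : diff K h' h w' w e.symm = - diff K h h' w w' e := by
  rw [eq_neg_iff_add_eq_zero, diff_add K h' h w' w e.symm, diff_self]

/-- The two morphisms agree on points. -/
theorem base_eq {h h' : T.X ⟶ Y} (w : T.j ≫ h = U.ι ≫ g) (w' : T.j ≫ h' = U.ι ≫ g) (x : T.X) :
    h x = h' x := by
  obtain ⟨y, rfl⟩ := T.j.surjective x
  rw [← Scheme.Hom.comp_apply, ← Scheme.Hom.comp_apply, w, w']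

theorem eq_of_diff_eq_zero (H : diff K h h' w w' e = 0) : h = h' := by
  refine hom_ext_ev (base_eq w w') fun V W h1 h2 a => ?_
  -- `W = T.im W₀` with `W₀ ≤ U`
  set W₀ : X₀.Opens := U.ι ''ᵁ (T.j ⁻¹ᵁ W) with hW₀
  have hU : W₀ ≤ U := U.ι_image_le _
  have hV : W₀ ≤ g ⁻¹ᵁ V := by
    rintro _ ⟨x, hx, rfl⟩
    have h3 : h (T.j x) ∈ V := h1 hx
    have h4 : (T.j ≫ h) x = (U.ι ≫ g) x := by rw [w]
    rw [Scheme.Hom.comp_apply, Scheme.Hom.comp_apply] at h4
    rw [h4] at h3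
    exact h3
  have hW : W ≤ T.im W₀ := (T.im_image_preimage W).ge
  have h5 := κ_diff K h h' w w' e hU hV a
  rw [H, DerOn.zero_app, map_zero] at h5
  have h6 := congrArg (resO T.X hW) (sub_eq_zero.1 h5.symm)
  rw [res_ev, res_ev] at h6
  exact h6

theorem diff_eq_zero_iff : diff K h h' w w' e = 0 ↔ h = h' := by
  refine ⟨eq_of_diff_eq_zero K h h' w w' e, fun H => ?_⟩
  subst H
  exact diff_self K h w

end diff

end K696.Diff
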