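import Groth.Agent.Lift.K696.Cut
import Groth.Agent.Lift.K696.Diff
import Groth.Agent.OmegaSh.K583.DerFunct

/-!
# Derivations on opens as local homomorphisms out of the pulled back differentials

For a universal derivation `d : O_Y → Ω` over `S` and `g : X₀ ⟶ Y`:
`derEquiv hd : DerOn g q M U ≃+ LocHom (g^* Ω) M U`, compatible with restriction (`derEquiv_rs`) and characterised by
`(derEquiv hd D).app (res (pullSect (d a))) = D.app a` (`derEquiv_app`).
-/

set_option autoImplicit false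
universe u

open CategoryTheory CategoryTheory.Limits AlgebraicGeometry Opposite TopologicalSpace
open Groth.Agent.Sga67.Sec
open K696.Base K696.LHom K696.Cut K696.Diff K583.DerAffine K583.DerFunct OmegaSh

namespace K696.DerLoc

variable {X₀ Y S : Scheme.{u}} {g : X₀ ⟶ Y} {q : Y ⟶ S} {M : X₀.Modules} {U : X₀.Opens}

/-- Sections of `g_* (cut U M)`. -/
noncomputable def pcSec (g : X₀ ⟶ Y) (M : X₀.Modules) (U : X₀.Opens) (V : Y.Opens) :
    Γ((Scheme.Modules.pushforward g).obj (cut U M), V) →+ Sec M (U.ι ''ᵁ (U.ι ⁻¹ᵁ (g ⁻¹ᵁ V))) :=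
  cutSec U M (g ⁻¹ᵁ V)

/-- Sections of `g_* (cut U M)`. -/
noncomputable def secPc (g : X₀ ⟶ Y) (M : X₀.Modules) (U : X₀.Opens) (V : Y.Opens) :
    Sec M (U.ι ''ᵁ (U.ι ⁻¹ᵁ (g ⁻¹ᵁ V))) →+ Γ((Scheme.Modules.pushforward g).obj (cut U M), V) :=
  secCut U M (g ⁻¹ᵁ V)

theorem pcSec_secPc (V : Y.Opens) (s : Sec M (U.ι ''ᵁ (U.ι ⁻¹ᵁ (g ⁻¹ᵁ V)))) :
    pcSec g M U V (secPc g M U V s) = s := rfl

theorem pcSec_injective (V : Y.Opens) : Function.Injective (pcSec g M U V) := fun _ _ h => h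

theorem pcSec_smul (V : Y.Opens) (a : Γ(Y, V))
    (s : Γ((Scheme.Modules.pushforward g).obj (cut U M), V)) :
    pcSec g M U V (a • s) = ev g (image_preimage_le U (g ⁻¹ᵁ V)) a • pcSec g M U V s := by
  have h1 : resO X₀ (image_preimage_le U (g ⁻¹ᵁ V)) (g.app V a) =
      ev g (image_preimage_le U (g ⁻¹ᵁ V)) a := (ev_eq g _ a).symm
  rw [← h1]
  exact cutSec_smul U M (g ⁻¹ᵁ V) (g.app V a) s

theorem pcSec_map {V V' : Y.Opens} (h : V' ≤ V)
    (s : Γ((Scheme.Modules.pushforward g).obj (cut U M), V)) :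
    pcSec g M U V' (((Scheme.Modules.pushforward g).obj (cut U M)).presheaf.map (homOfLE h).op s) =
      res M (U.ι.image_mono (U.ι.preimage_mono (g.preimage_mono h))) (pcSec g M U V s) := by
  rfl

/-- A derivation on the opens contained in `U` is a derivation with values in `g_* (cut U M)`. -/
noncomputable def toDer (D : DerOn g q M U) :
    Der q ((Scheme.Modules.pushforward g).obj (cut U M)) :=
  mkDer q _ (fun V => (secPc g M U V).comp
      (D.app (image_preimage_le' (U := U) (g ⁻¹ᵁ V)) (image_preimage_le U (g ⁻¹ᵁ V))))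
    (fun V a b => by
      apply pcSec_injective
      rw [map_add, pcSec_smul, pcSec_smul]
      exact D.leib _ _ a b)
    (fun V V' h a => by
      apply pcSec_injective
      rw [pcSec_map]
      exact D.res_app _ _ _ h _ a)
    (fun V c => by
      apply pcSec_injective
      rw [map_zero]
      have h1 : q.app V c = ev q le_rfl c := (ev_eq_app q c le_rfl).symm
      rw [h1]
      exact D.kill _ _ _ c)

theorem toDer_app (D : DerOn g q M U) (V : Y.Opens) (a : Γ(Y, V)) :
    pcSec g M U V ((toDer D).app V a) =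
      D.app (image_preimage_le' (U := U) (g ⁻¹ᵁ V)) (image_preimage_le U (g ⁻¹ᵁ V)) a := rfl

variable {Ω : Y.Modules} {d : Der q Ω}

/-- Pull-back of sections. -/
noncomputable def psec (g : X₀ ⟶ Y) (Ω : Y.Modules) (V : Y.Opens) :
    Sec Ω V →+ Sec ((Scheme.Modules.pullback g).obj Ω) (g ⁻¹ᵁ V) :=
  (pullSect g Ω V).hom

theorem psec_eq (V : Y.Opens) (s : Sec Ω V) : psec g Ω V s = pullSect g Ω V s := rfl

theorem psec_smul (V : Y.Opens) (a : Γ(Y, V)) (s : Sec Ω V) :
    psec g Ω V (a • s) = g.app V a • psec g Ω V s :=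
  Scheme.Modules.Hom.app_smul _ a s

theorem psec_res {V V' : Y.Opens} (h : V' ≤ V) (s : Sec Ω V) :
    psec g Ω V' (res Ω h s) =
      res ((Scheme.Modules.pullback g).obj Ω) (g.preimage_mono h) (psec g Ω V s) := by
  exact congr($((Scheme.Modules.Hom.mapPresheaf
    ((Scheme.Modules.pullbackPushforwardAdjunction g).unit.app Ω)).naturality (homOfLE h).op) s)

/-- The value of a derivation. -/
noncomputable def dsec (d : Der q Ω) (V : Y.Opens) : Γ(Y, V) →+ Sec Ω V := d.app V

theorem dsec_eq (V : Y.Opens) (a : Γ(Y, V)) : dsec d V a = d.app V a := rfl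

theorem dsec_res {V V' : Y.Opens} (h : V' ≤ V) (a : Γ(Y, V)) :
    dsec d V' (resO Y h a) = res Ω h (dsec d V a) := app_map d h a

theorem dsec_mul (V : Y.Opens) (a b : Γ(Y, V)) :
    dsec d V (a * b) = a • dsec d V b + b • dsec d V a := app_mul d V a b

theorem dsec_kill {V : Y.Opens} {Z : S.Opens} (hZ : V ≤ q ⁻¹ᵁ Z) (c : Γ(S, Z)) :
    dsec d V (ev q hZ c) = 0 := app_appLE d _ _ hZ c

/-- The pulled back differential of `a`, on `W ≤ g ⁻¹ V`. -/
noncomputable def pd (g : X₀ ⟶ Y) (d : Der q Ω) {V : Y.Opens} {W : X₀.Opens} (hV : W ≤ g ⁻¹ᵁ V) :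
    Γ(Y, V) →+ Sec ((Scheme.Modules.pullback g).obj Ω) W :=
  (res ((Scheme.Modules.pullback g).obj Ω) hV).comp ((psec g Ω V).comp (dsec d V))

theorem pd_apply {V : Y.Opens} {W : X₀.Opens} (hV : W ≤ g ⁻¹ᵁ V) (a : Γ(Y, V)) :
    pd g d hV a = res ((Scheme.Modules.pullback g).obj Ω) hV (psec g Ω V (dsec d V a)) := rfl

theorem pd_res {V V' : Y.Opens} {W W' : X₀.Opens} (hV : W ≤ g ⁻¹ᵁ V) (hW : W' ≤ W)
    (hV' : V' ≤ V) (h' : W' ≤ g ⁻¹ᵁ V') (a : Γ(Y, V)) :
    pd g d h' (resO Y hV' a) = res _ hW (pd g d hV a) := by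
  rw [pd_apply, pd_apply, res_res, dsec_res, psec_res, res_res]

theorem pd_mul {V : Y.Opens} {W : X₀.Opens} (hV : W ≤ g ⁻¹ᵁ V) (a b : Γ(Y, V)) :
    pd g d hV (a * b) = ev g hV a • pd g d hV b + ev g hV b • pd g d hV a := by
  rw [pd_apply, pd_apply, pd_apply, dsec_mul, map_add, psec_smul, psec_smul, map_add, res_smul,
    res_smul, ev_eq, ev_eq]

theorem pd_kill {V : Y.Opens} {W : X₀.Opens} (hV : W ≤ g ⁻¹ᵁ V) {Z : S.Opens}
    (hZ : V ≤ q ⁻¹ᵁ Z) (c : Γ(S, Z)) : pd g d hV (ev q hZ c) = 0 := by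
  rw [pd_apply, dsec_kill, map_zero, map_zero]

/-- The derivation given by a local homomorphism out of `g^* Ω`. -/
noncomputable def ofLocHom (d : Der q Ω) (φ : LocHom ((Scheme.Modules.pullback g).obj Ω) M U) :
    DerOn g q M U where
  app hU hV := (φ.app hU).comp (pd g d hV)
  res_app hU hV hW hV' h' a := by
    change φ.app _ (pd g d h' (resO Y hV' a)) = res M hW (φ.app hU (pd g d hV a))
    rw [pd_res hV hW hV' h', φ.app_res hU]
  leib hU hV a b := by
    change φ.app hU (pd g d hV (a * b)) = ev g hV a • φ.app hU (pd g d hV b) +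
      ev g hV b • φ.app hU (pd g d hV a)
    rw [pd_mul, map_add, φ.app_smul, φ.app_smul]
  kill := by
    intro V W hU hV Z hZ c
    change φ.app hU (pd g d hV (ev q hZ c)) = 0
    rw [pd_kill, map_zero]

theorem ofLocHom_app (φ : LocHom ((Scheme.Modules.pullback g).obj Ω) M U) {V : Y.Opens}
    {W : X₀.Opens} (hU : W ≤ U) (hV : W ≤ g ⁻¹ᵁ V) (a : Γ(Y, V)) :
    (ofLocHom d φ).app hU hV a = φ.app hU (pd g d hV a) := rfl

/-- The local homomorphism given by a derivation. -/
noncomputable def toLocHom (hd : IsUniversal d) (D : DerOn g q M U) :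
    LocHom ((Scheme.Modules.pullback g).obj Ω) M U :=
  cutEquiv (adj g (univLift hd (toDer D)))

theorem toLocHom_app (hd : IsUniversal d) (D : DerOn g q M U) {V : Y.Opens}
    {W : X₀.Opens} (hU : W ≤ U) (hV : W ≤ g ⁻¹ᵁ V) (a : Γ(Y, V)) :
    (toLocHom hd D).app hU (pd g d hV a) = D.app hU hV a := by
  have hW : W ≤ U.ι ''ᵁ (U.ι ⁻¹ᵁ (g ⁻¹ᵁ V)) := by
    rw [Scheme.Hom.image_preimage_eq_opensRange_inf, Scheme.Opens.opensRange_ι]
    exact le_inf hU hV
  rw [toLocHom, cutEquiv_app, pd_apply, appS_res, cutSec_res, res_res]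
  have h2 : cutSec U M (g ⁻¹ᵁ V) (appS (adj g (univLift hd (toDer D))) (g ⁻¹ᵁ V)
      (psec g Ω V (dsec d V a))) =
      D.app (image_preimage_le' (U := U) (g ⁻¹ᵁ V)) (image_preimage_le U (g ⁻¹ᵁ V)) a :=
    (congrArg (pcSec g M U V) ((adj_pullSect g (univLift hd (toDer D)) V (d.app V a)).trans
      (univLift_app hd (toDer D) V a))).trans (toDer_app D V a)
  have h3 := congrArg (res M hW) h2
  rw [← D.res_app _ _ hW le_rfl hV, resO_self] at h3
  exact h3

/-- Local homomorphisms out of `g^* Ω` are determined by their values on pulled back differentials. -/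
theorem locHom_ext (hd : IsUniversal d) {φ ψ : LocHom ((Scheme.Modules.pullback g).obj Ω) M U}
    (h : ∀ (V : Y.Opens) (W : X₀.Opens) (hU : W ≤ U) (hV : W ≤ g ⁻¹ᵁ V) (a : Γ(Y, V)),
      φ.app hU (pd g d hV a) = ψ.app hU (pd g d hV a)) : φ = ψ := by
  apply cutEquiv.symm.injective
  apply ((Scheme.Modules.pullbackPushforwardAdjunction g).homEquiv _ _).injective
  apply univ_hom_ext hd
  intro V a
  rw [Adjunction.homEquiv_unit, Adjunction.homEquiv_unit]
  apply pcSec_injective (g := g) (M := M) (U := U) V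
  have key : ∀ θ : LocHom ((Scheme.Modules.pullback g).obj Ω) M U,
      pcSec g M U V (((Scheme.Modules.pullbackPushforwardAdjunction g).unit.app Ω ≫
        (Scheme.Modules.pushforward g).map (cutEquiv.symm θ)).app V (d.app V a)) =
      θ.app (image_preimage_le' (U := U) (g ⁻¹ᵁ V))
        (pd g d (image_preimage_le U (g ⁻¹ᵁ V)) a) := fun θ =>
    ofLoc_app θ (g ⁻¹ᵁ V) (psec g Ω V (dsec d V a))
  rw [key, key]
  exact h _ _ _ _ _

/-- Derivations on the opens contained in `U` are local homomorphisms out of `g^* Ω`. -/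
noncomputable def derEquiv (hd : IsUniversal d) :
    DerOn g q M U ≃+ LocHom ((Scheme.Modules.pullback g).obj Ω) M U where
  toFun := toLocHom hd
  invFun := ofLocHom d
  left_inv D := DerOn.ext' fun V W hU hV a => by rw [ofLocHom_app, toLocHom_app]
  right_inv φ := locHom_ext hd fun V W hU hV a => by rw [toLocHom_app, ofLocHom_app]
  map_add' D D' := locHom_ext hd fun V W hU hV a => by
    rw [toLocHom_app, LocHom.add_app, toLocHom_app, toLocHom_app, DerOn.add_app]

theorem derEquiv_app (hd : IsUniversal d) (D : DerOn g q M U) {V : Y.Opens}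
    {W : X₀.Opens} (hU : W ≤ U) (hV : W ≤ g ⁻¹ᵁ V) (a : Γ(Y, V)) :
    (derEquiv hd D).app hU (pd g d hV a) = D.app hU hV a := toLocHom_app hd D hU hV a

theorem derEquiv_symm_app (hd : IsUniversal d)
    (φ : LocHom ((Scheme.Modules.pullback g).obj Ω) M U) {V : Y.Opens}
    {W : X₀.Opens} (hU : W ≤ U) (hV : W ≤ g ⁻¹ᵁ V) (a : Γ(Y, V)) :
    ((derEquiv hd).symm φ).app hU hV a = φ.app hU (pd g d hV a) := rfl

theorem derEquiv_rs (hd : IsUniversal d) {U' : X₀.Opens} (h : U' ≤ U) (D : DerOn g q M U) :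
    derEquiv hd (D.rs h) = LocHom.rs h (derEquiv hd D) := by
  apply locHom_ext hd
  intro V W hU hV a
  rw [derEquiv_app, LocHom.rs_app, derEquiv_app, DerOn.rs_app]

theorem derEquiv_symm_rs (hd : IsUniversal d) {U' : X₀.Opens} (h : U' ≤ U)
    (φ : LocHom ((Scheme.Modules.pullback g).obj Ω) M U) :
    (derEquiv hd).symm (LocHom.rs h φ) = ((derEquiv hd).symm φ).rs h := rfl

/-- Vanishing of all derivations when there are no homomorphisms. -/
theorem derOn_top_eq_zero (hd : IsUniversal d)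
    (h0 : Subsingleton ((Scheme.Modules.pullback g).obj Ω ⟶ M)) (D : DerOn g q M ⊤) : D = 0 := by
  apply (derEquiv hd).injective
  apply LocHom.homEquiv.injective
  exact h0.elim _ _

end K696.DerLoc
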