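import Groth.Agent.Lift.K696.Base

/-!
# Square-zero thickenings of open subschemes, with their kernel identified with a fixed module

`Th U` : a surjective closed immersion `j : U ⟶ X` out of the open subscheme `U` of `X₀`;
`T.im W`, `T.π`; `Kap T M` : an identification `κ` of the kernel of `T.π` with the sections of the
`O_{X₀}`-module `M` over the opens contained in `U`.
-/

set_option autoImplicit false
universe u

open CategoryTheory CategoryTheory.Limits AlgebraicGeometry Opposite TopologicalSpace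
open Groth.Agent.Sga67.Sec (Sec res resO res_res resO_resO res_self resO_self res_smul
  eq_of_locally eqO_of_locally)
open K696.Base

namespace K696.Thk

variable {X₀ : Scheme.{u}}

/-- A surjective closed immersion out of the open subscheme `U`. -/
structure Th (U : X₀.Opens) where
  X : Scheme.{u}
  j : U.toScheme ⟶ X
  cl : IsClosedImmersion j
  su : Surjective j

attribute [instance] Th.cl Th.su

variable {U : X₀.Opens}

namespace Th

variable (T : Th U)

/-- The open of `T.X` corresponding to `W ≤ U`. -/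
def im (W : X₀.Opens) : T.X.Opens := Base.im T.j (U.ι ⁻¹ᵁ W)

theorem im_mono {W W' : X₀.Opens} (h : W' ≤ W) : T.im W' ≤ T.im W :=
  Base.im_mono T.j (U.ι.preimage_mono h)

theorem le_preimage_im (W : X₀.Opens) : U.ι ⁻¹ᵁ W ≤ T.j ⁻¹ᵁ T.im W :=
  (Base.preimage_im T.j _).ge

/-- `V` is `T.im W` for `W` the image of its preimage. -/
theorem im_image_preimage (V : T.X.Opens) : T.im (U.ι ''ᵁ (T.j ⁻¹ᵁ V)) = V := by
  rw [im, Scheme.Hom.preimage_image_eq, Base.im_preimage]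

theorem le_preimage_of_le {Y : Scheme.{u}} (h : T.X ⟶ Y) {V : Y.Opens} {W : X₀.Opens}
    (e : U.ι ⁻¹ᵁ W ≤ (T.j ≫ h) ⁻¹ᵁ V) : T.im W ≤ h ⁻¹ᵁ V :=
  (Base.im_le_iff T.j).2 e

/-- The reduction map `Γ(X, im W) → Γ(X₀, W)`. -/
noncomputable def π {W : X₀.Opens} (h : W ≤ U) : Γ(T.X, T.im W) →+* Γ(X₀, W) :=
  (down U h).comp (ev T.j (T.le_preimage_im W))

theorem π_apply {W : X₀.Opens} (h : W ≤ U) (a : Γ(T.X, T.im W)) :
    T.π h a = down U h (ev T.j (T.le_preimage_im W) a) := rfl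

theorem resO_π {W W' : X₀.Opens} (h : W ≤ U) (hW : W' ≤ W) (a : Γ(T.X, T.im W)) :
    resO X₀ hW (T.π h a) = T.π (hW.trans h) (resO T.X (T.im_mono hW) a) := by
  rw [π_apply, π_apply, resO_down, res_ev, ev_res]

/-- `π` of a section coming from `h : X ⟶ Y` is determined by `j ≫ h`. -/
theorem π_ev {Y : Scheme.{u}} (h : T.X ⟶ Y) (g : X₀ ⟶ Y) (w : T.j ≫ h = U.ι ≫ g) {V : Y.Opens}
    {W : X₀.Opens} (hW : W ≤ U) (e : W ≤ g ⁻¹ᵁ V) (e' : T.im W ≤ h ⁻¹ᵁ V) (a : Γ(Y, V)) :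
    T.π hW (ev h e' a) = ev g e a := by
  rw [π_apply, ev_comp T.j h e' _ (by
    rw [w]; exact (U.ι.preimage_mono e).trans le_rfl) a,
    ev_congr w _ ((U.ι.preimage_mono e).trans le_rfl), ← ev_comp U.ι g e le_rfl, down_ev]

theorem le_of_le {Y : Scheme.{u}} (h : T.X ⟶ Y) (g : X₀ ⟶ Y) (w : T.j ≫ h = U.ι ≫ g) {V : Y.Opens}
    {W : X₀.Opens} (e : W ≤ g ⁻¹ᵁ V) : T.im W ≤ h ⁻¹ᵁ V := by
  apply T.le_preimage_of_le h
  rw [w]
  exact U.ι.preimage_mono e

end Th

/-- The kernel of the reduction maps of `T` is identified with `M`. -/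
structure Kap (T : Th U) (M : X₀.Modules) where
  κ : ∀ {W : X₀.Opens}, W ≤ U → (Sec M W →+ Γ(T.X, T.im W))
  res_κ : ∀ {W W' : X₀.Opens} (h : W ≤ U) (hW : W' ≤ W) (m : Sec M W),
    resO T.X (T.im_mono hW) (κ h m) = κ (hW.trans h) (res M hW m)
  inj : ∀ {W : X₀.Opens} (h : W ≤ U) (m : Sec M W), κ h m = 0 → m = 0
  π_κ : ∀ {W : X₀.Opens} (h : W ≤ U) (m : Sec M W), T.π h (κ h m) = 0
  ex : ∀ {W : X₀.Opens} (h : W ≤ U) (a : Γ(T.X, T.im W)), T.π h a = 0 → ∃ m : Sec M W, κ h m = a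
  smul : ∀ {W : X₀.Opens} (h : W ≤ U) (a : Γ(T.X, T.im W)) (m : Sec M W),
    κ h (T.π h a • m) = a * κ h m

namespace Kap

variable {T : Th U} {M : X₀.Modules} (K : Kap T M)

theorem κ_injective {W : X₀.Opens} (h : W ≤ U) : Function.Injective (K.κ h) :=
  (injective_iff_map_eq_zero _).2 (K.inj h)

theorem mul_eq_zero {W : X₀.Opens} (h : W ≤ U) (m m' : Sec M W) : K.κ h m * K.κ h m' = 0 := by
  rw [← K.smul, K.π_κ, zero_smul, map_zero]

/-- Inverse of `κ` on the kernel of `π`. -/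
noncomputable def lift {W : X₀.Opens} (h : W ≤ U) (a : Γ(T.X, T.im W)) (ha : T.π h a = 0) :
    Sec M W := (K.ex h a ha).choose

theorem κ_lift {W : X₀.Opens} (h : W ≤ U) (a : Γ(T.X, T.im W)) (ha : T.π h a = 0) :
    K.κ h (K.lift h a ha) = a := (K.ex h a ha).choose_spec

/-- Difference of two sections with the same reduction. -/
noncomputable def dif {W : X₀.Opens} (h : W ≤ U) (a b : Γ(T.X, T.im W))
    (hab : T.π h a = T.π h b) : Sec M W :=
  K.lift h (a - b) (by rw [map_sub, hab, sub_self])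

theorem κ_dif {W : X₀.Opens} (h : W ≤ U) (a b : Γ(T.X, T.im W)) (hab : T.π h a = T.π h b) :
    K.κ h (K.dif h a b hab) = a - b := K.κ_lift h _ _

end Kap

end K696.Thk
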