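import Groth.Agent.Sga67.Sec

/-!
# Homomorphisms of O_X-modules over an open subset, as families on sections

`LocHom F G U` : families `Γ(F, W) → Γ(G, W)`, `W ≤ U`, linear and compatible with restriction.
It is an additive commutative group; `rs` (restriction), `ofHom`, `toHom` (`U = ⊤`), `homEquiv`,
`ext_of_cover`, `exists_glue` (gluing over an open cover), `exists_of_basis`.
-/

set_option autoImplicit false
universe u

open CategoryTheory CategoryTheory.Limits AlgebraicGeometry Opposite TopologicalSpace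
open Groth.Agent.Sga67.Sec

namespace K696.LHom

variable {X : Scheme.{u}}

section glue

/-- Gluing of sections. -/
theorem exists_glue_sec (G : X.Modules) {ι : Type*} {W : X.Opens} (V : ι → X.Opens)
    (hV : ∀ i, V i ≤ W) (hc : ∀ x ∈ W, ∃ i, x ∈ V i) (t : ∀ i, Sec G (V i))
    (h : ∀ i j (x : X), x ∈ V i → x ∈ V j → ∃ (V' : X.Opens) (hi : V' ≤ V i) (hj : V' ≤ V j),
      x ∈ V' ∧ res G hi (t i) = res G hj (t j)) :
    ∃ s : Sec G W, ∀ i, res G (hV i) s = t i := by
  have H := TopCat.Sheaf.existsUnique_gluing' ⟨G.presheaf, G.isSheaf⟩ V W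
    (fun i => homOfLE (hV i)) (fun x hx => by
      obtain ⟨i, hi⟩ := hc x hx
      exact Opens.mem_iSup.2 ⟨i, hi⟩) t ?_
  · obtain ⟨s, hs, -⟩ := H
    exact ⟨s, hs⟩
  · intro i j
    change res G (inf_le_left : V i ⊓ V j ≤ V i) (t i) = res G (inf_le_right : V i ⊓ V j ≤ V j) (t j)
    refine eq_of_locally G fun x hx => ?_
    obtain ⟨V', hi, hj, hx', e⟩ := h i j x hx.1 hx.2
    refine ⟨V', le_inf hi hj, hx', ?_⟩
    rw [res_res, res_res, e]

/-- Gluing of functions. -/
theorem exists_glue_fn {ι : Type*} {W : X.Opens} (V : ι → X.Opens)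
    (hV : ∀ i, V i ≤ W) (hc : ∀ x ∈ W, ∃ i, x ∈ V i) (t : ∀ i, Γ(X, V i))
    (h : ∀ i j (x : X), x ∈ V i → x ∈ V j → ∃ (V' : X.Opens) (hi : V' ≤ V i) (hj : V' ≤ V j),
      x ∈ V' ∧ resO X hi (t i) = resO X hj (t j)) :
    ∃ s : Γ(X, W), ∀ i, resO X (hV i) s = t i := by
  have H := TopCat.Sheaf.existsUnique_gluing' X.sheaf V W
    (fun i => homOfLE (hV i)) (fun x hx => by
      obtain ⟨i, hi⟩ := hc x hx
      exact Opens.mem_iSup.2 ⟨i, hi⟩) t ?_
  · obtain ⟨s, hs, -⟩ := H
    exact ⟨s, hs⟩
  · intro i j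
    change resO X (inf_le_left : V i ⊓ V j ≤ V i) (t i) =
      resO X (inf_le_right : V i ⊓ V j ≤ V j) (t j)
    refine eqO_of_locally fun x hx => ?_
    obtain ⟨V', hi, hj, hx', e⟩ := h i j x hx.1 hx.2
    refine ⟨V', le_inf hi hj, hx', ?_⟩
    rw [resO_resO, resO_resO, e]

end glue

/-- Homomorphisms `F|_U → G|_U`, as families on sections. -/
@[ext]
structure LocHom (F G : X.Modules) (U : X.Opens) where
  app : ∀ {W : X.Opens}, W ≤ U → (Sec F W →+ Sec G W)
  app_smul : ∀ {W : X.Opens} (h : W ≤ U) (a : Γ(X, W)) (s : Sec F W),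
    app h (a • s) = a • app h s
  app_res : ∀ {W W' : X.Opens} (h : W ≤ U) (hW : W' ≤ W) (s : Sec F W),
    app (hW.trans h) (res F hW s) = res G hW (app h s)

namespace LocHom

variable {F G H : X.Modules} {U : X.Opens}

theorem ext' {φ ψ : LocHom F G U} (h : ∀ (W : X.Opens) (hW : W ≤ U) (s : Sec F W),
    φ.app hW s = ψ.app hW s) : φ = ψ := by
  ext W hW s
  exact h W hW s

instance : Zero (LocHom F G U) := ⟨
  { app := fun _ => 0
    app_smul := fun _ _ _ => by simp
    app_res := fun _ _ _ => by simp }⟩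

instance : Add (LocHom F G U) := ⟨fun φ ψ =>
  { app := fun h => φ.app h + ψ.app h
    app_smul := fun h a s => by
      rw [AddMonoidHom.add_apply, AddMonoidHom.add_apply, φ.app_smul, ψ.app_smul, smul_add]
    app_res := fun h hW s => by
      rw [AddMonoidHom.add_apply, AddMonoidHom.add_apply, φ.app_res h hW, ψ.app_res h hW,
        map_add] }⟩

instance : Neg (LocHom F G U) := ⟨fun φ =>
  { app := fun h => - φ.app h
    app_smul := fun h a s => by
      rw [AddMonoidHom.neg_apply, AddMonoidHom.neg_apply, φ.app_smul, smul_neg]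
    app_res := fun h hW s => by
      rw [AddMonoidHom.neg_apply, AddMonoidHom.neg_apply, φ.app_res h hW, map_neg] }⟩

@[simp] theorem zero_app {W : X.Opens} (h : W ≤ U) (s : Sec F W) :
    (0 : LocHom F G U).app h s = 0 := rfl

@[simp] theorem add_app (φ ψ : LocHom F G U) {W : X.Opens} (h : W ≤ U) (s : Sec F W) :
    (φ + ψ).app h s = φ.app h s + ψ.app h s := rfl

@[simp] theorem neg_app (φ : LocHom F G U) {W : X.Opens} (h : W ≤ U) (s : Sec F W) :
    (-φ).app h s = - φ.app h s := rfl

instance : AddCommGroup (LocHom F G U) where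
  add_assoc a b c := by ext; simp [add_assoc]
  zero_add a := by ext; simp
  add_zero a := by ext; simp
  nsmul := nsmulRec
  zsmul := zsmulRec
  neg_add_cancel a := by ext; simp
  add_comm a b := by ext; simp [add_comm]

@[simp] theorem sub_app (φ ψ : LocHom F G U) {W : X.Opens} (h : W ≤ U) (s : Sec F W) :
    (φ - ψ).app h s = φ.app h s - ψ.app h s := by
  rw [sub_eq_add_neg, add_app, neg_app, ← sub_eq_add_neg]

/-- The underlying linear map on sections. -/
def appL (φ : LocHom F G U) {W : X.Opens} (h : W ≤ U) : Sec F W →ₗ[Γ(X, W)] Sec G W :=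
  { φ.app h with map_smul' := φ.app_smul h }

@[simp] theorem appL_apply (φ : LocHom F G U) {W : X.Opens} (h : W ≤ U) (s : Sec F W) :
    φ.appL h s = φ.app h s := rfl

/-- Restriction to a smaller open. -/
def rs {U' : X.Opens} (h : U' ≤ U) : LocHom F G U →+ LocHom F G U' where
  toFun φ :=
    { app := fun hW => φ.app (hW.trans h)
      app_smul := fun _ a s => φ.app_smul _ a s
      app_res := fun _ hW s => φ.app_res _ hW s }
  map_zero' := rfl
  map_add' _ _ := rfl

@[simp] theorem rs_app {U' : X.Opens} (h : U' ≤ U) (φ : LocHom F G U) {W : X.Opens} (hW : W ≤ U')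
    (s : Sec F W) : (rs h φ).app hW s = φ.app (hW.trans h) s := rfl

@[simp] theorem rs_rs {U' U'' : X.Opens} (h : U' ≤ U) (h' : U'' ≤ U') (φ : LocHom F G U) :
    rs h' (rs h φ) = rs (h'.trans h) φ := rfl

@[simp] theorem rs_self (φ : LocHom F G U) (h : U ≤ U) : rs h φ = φ := rfl

/-- The family given by a morphism. -/
noncomputable def ofHom (U : X.Opens) : (F ⟶ G) →+ LocHom F G U where
  toFun f :=
    { app := fun {W} _ => (appS f W).toAddMonoidHom
      app_smul := fun {W} _ a s => (appS f W).map_smul a s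
      app_res := fun _ hW s => appS_res f hW s }
  map_zero' := rfl
  map_add' _ _ := rfl

@[simp] theorem ofHom_app (f : F ⟶ G) {W : X.Opens} (h : W ≤ U) (s : Sec F W) :
    (ofHom U f).app h s = appS f W s := rfl

@[simp] theorem rs_ofHom {U' : X.Opens} (h : U' ≤ U) (f : F ⟶ G) :
    rs h (ofHom U f) = ofHom U' f := rfl

/-- Postcomposition with a morphism. -/
noncomputable def post (f : G ⟶ H) : LocHom F G U →+ LocHom F H U where
  toFun φ :=
    { app := fun {W} h => (appS f W).toAddMonoidHom.comp (φ.app h)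
      app_smul := fun {W} h a s => by
        change appS f W (φ.app h (a • s)) = a • appS f W (φ.app h s)
        rw [φ.app_smul, (appS f W).map_smul]
      app_res := fun {W W'} h hW s => by
        change appS f W' (φ.app _ (res F hW s)) = res H hW (appS f W (φ.app h s))
        rw [φ.app_res h hW, appS_res] }
  map_zero' := by ext; simp
  map_add' φ ψ := by ext; simp

@[simp] theorem post_app (f : G ⟶ H) (φ : LocHom F G U) {W : X.Opens} (h : W ≤ U) (s : Sec F W) :
    (post f φ).app h s = appS f W (φ.app h s) := rfl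

/-- Precomposition with a morphism. -/
noncomputable def pre (f : F ⟶ G) : LocHom G H U →+ LocHom F H U where
  toFun φ :=
    { app := fun {W} h => (φ.app h).comp (appS f W).toAddMonoidHom
      app_smul := fun {W} h a s => by
        change φ.app h (appS f W (a • s)) = a • φ.app h (appS f W s)
        rw [(appS f W).map_smul, φ.app_smul]
      app_res := fun {W W'} h hW s => by
        change φ.app _ (appS f W' (res F hW s)) = res H hW (φ.app h (appS f W s))
        rw [appS_res, φ.app_res h hW] }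
  map_zero' := by ext; simp
  map_add' φ ψ := by ext; simp

@[simp] theorem pre_app (f : F ⟶ G) (φ : LocHom G H U) {W : X.Opens} (h : W ≤ U) (s : Sec F W) :
    (pre f φ).app h s = φ.app h (appS f W s) := rfl

/-- Two local homomorphisms which agree on the sections over a neighbourhood basis agree. -/
theorem ext_of_locally {φ ψ : LocHom F G U}
    (h : ∀ x ∈ U, ∀ (W : X.Opens), x ∈ W → ∃ (V : X.Opens) (hV : V ≤ U), x ∈ V ∧ V ≤ W ∧
      ∀ s : Sec F V, φ.app hV s = ψ.app hV s) : φ = ψ := by
  refine ext' fun W hW s => eq_of_locally G fun x hx => ?_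
  obtain ⟨V, hV, hxV, hVW, e⟩ := h x (hW hx) W hx
  refine ⟨V, hVW, hxV, ?_⟩
  rw [← φ.app_res hW hVW, ← ψ.app_res hW hVW]
  exact e _

/-- Local homomorphisms agreeing on an open cover agree. -/
theorem ext_of_cover {ι : Type*} (V : ι → X.Opens) (hV : ∀ i, V i ≤ U)
    (hc : ∀ x ∈ U, ∃ i, x ∈ V i) {φ ψ : LocHom F G U} (h : ∀ i, rs (hV i) φ = rs (hV i) ψ) :
    φ = ψ := by
  refine ext_of_locally fun x hx W hxW => ?_
  obtain ⟨i, hi⟩ := hc x hx
  refine ⟨V i ⊓ W, inf_le_left.trans (hV i), ⟨hi, hxW⟩, inf_le_right, fun s => ?_⟩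
  exact congrArg (fun θ => LocHom.app θ (inf_le_left : V i ⊓ W ≤ V i) s) (h i)

/-- Local homomorphisms from data on a basis of the opens contained in `U`: `B : ι → X.Opens` are opens
contained in `U` forming a neighbourhood basis of every point of `U`. -/
theorem exists_of_basis {ι : Type*} (B : ι → X.Opens) (hBU : ∀ i, B i ≤ U)
    (hB : ∀ x ∈ U, ∀ (W : X.Opens), x ∈ W → ∃ i, x ∈ B i ∧ B i ≤ W)
    (φ : ∀ i, Sec F (B i) →ₗ[Γ(X, B i)] Sec G (B i))
    (hφ : ∀ i j (h : B j ≤ B i) (s : Sec F (B i)), φ j (res F h s) = res G h (φ i s)) :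
    ∃ ψ : LocHom F G U, ∀ i (s : Sec F (B i)), ψ.app (hBU i) s = φ i s := by
  have key : ∀ (W : X.Opens) (hW : W ≤ U) (s : Sec F W), ∃ t : Sec G W,
      ∀ (i : ι) (hi : B i ≤ W), res G hi t = φ i (res F hi s) := by
    intro W hW s
    obtain ⟨t, ht⟩ := exists_glue_sec G (ι := {i // B i ≤ W}) (fun i => B i.1) (fun i => i.2)
      (fun x hx => by
        obtain ⟨i, hxi, hi⟩ := hB x (hW hx) W hx
        exact ⟨⟨i, hi⟩, hxi⟩) (fun i => φ i.1 (res F i.2 s)) (by
        rintro ⟨i, hi⟩ ⟨j, hj⟩ x hxi hxj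
        obtain ⟨k, hxk, hk⟩ := hB x (hBU i hxi) (B i ⊓ B j) ⟨hxi, hxj⟩
        refine ⟨B k, hk.trans inf_le_left, hk.trans inf_le_right, hxk, ?_⟩
        rw [← hφ i k, ← hφ j k, res_res, res_res])
    exact ⟨t, fun i hi => ht ⟨i, hi⟩⟩
  choose t ht using key
  have uniq : ∀ (W : X.Opens) (hW : W ≤ U) (a b : Sec G W)
      (_ : ∀ (i : ι) (hi : B i ≤ W), res G hi a = res G hi b), a = b := by
    intro W hW a b hab
    refine eq_of_locally G fun x hx => ?_
    obtain ⟨i, hxi, hi⟩ := hB x (hW hx) W hx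
    exact ⟨B i, hi, hxi, hab i hi⟩
  refine ⟨{ app := fun {W} hW =>
              { toFun := t W hW
                map_zero' := uniq W hW _ _ fun i hi => by
                  rw [ht, map_zero, map_zero, map_zero]
                map_add' := fun a b => uniq W hW _ _ fun i hi => by
                  rw [ht, map_add, map_add, map_add, ht, ht] }
            app_smul := fun {W} hW a s => uniq W hW _ _ fun i hi => by
              change res G hi (t W hW (a • s)) = res G hi (a • t W hW s)
              rw [ht, res_smul, map_smul, res_smul, ht]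
            app_res := fun {W W'} hW hW' s => uniq W' (hW'.trans hW) _ _ fun i hi => by
              change res G hi (t W' _ (res F hW' s)) = res G hi (res G hW' (t W hW s))
              rw [ht, res_res, res_res, ht] }, fun i s => ?_⟩
  have := ht (B i) (hBU i) s i le_rfl
  rw [res_self, res_self] at this
  exact this

/-- Gluing of local homomorphisms over an open cover. -/
theorem exists_glue {ι : Type*} (V : ι → X.Opens) (hV : ∀ i, V i ≤ U)
    (hc : ∀ x ∈ U, ∃ i, x ∈ V i) (φ : ∀ i, LocHom F G (V i))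
    (h : ∀ i j, rs (inf_le_left : V i ⊓ V j ≤ V i) (φ i) =
      rs (inf_le_right : V i ⊓ V j ≤ V j) (φ j)) :
    ∃ ψ : LocHom F G U, ∀ i, rs (hV i) ψ = φ i := by
  have h' : ∀ i j (W : X.Opens) (hi : W ≤ V i) (hj : W ≤ V j) (s : Sec F W),
      (φ i).app hi s = (φ j).app hj s := fun i j W hi hj s =>
    congrArg (fun θ => LocHom.app θ (le_inf hi hj) s) (h i j)
  obtain ⟨ψ, hψ⟩ := exists_of_basis (F := F) (G := G) (U := U)
    (ι := {W : X.Opens // ∃ i, W ≤ V i}) (fun W => W.1)
    (fun W => W.2.choose_spec.trans (hV _))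
    (fun x hx W hxW => by
      obtain ⟨i, hi⟩ := hc x hx
      exact ⟨⟨V i ⊓ W, i, inf_le_left⟩, ⟨hi, hxW⟩, inf_le_right⟩)
    (fun W => (φ W.2.choose).appL W.2.choose_spec)
    (fun W W' hW s => by
      rw [appL_apply, appL_apply, ← (φ W.2.choose).app_res W.2.choose_spec hW]
      exact h' _ _ _ _ _ _)
  refine ⟨ψ, fun i => ext' fun W hW s => ?_⟩
  rw [rs_app]
  have h1 := hψ ⟨W, i, hW⟩ s
  rw [h1, appL_apply]
  exact h' _ _ _ _ _ _

/-- Over the whole space: the associated morphism. -/
noncomputable def toHom (φ : LocHom F G ⊤) : F ⟶ G :=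
  (exists_hom_of_basis' (X := X) (ι := X.Opens) (B := id)
    (by rw [Set.range_id]; exact Opens.isBasis_iff_nbhd.2 fun {U x} hx => ⟨U, trivial, hx, le_rfl⟩)
    F G (fun W => φ.appL le_top) (fun _ _ h s => φ.app_res _ h s)).choose

theorem toHom_app (φ : LocHom F G ⊤) (W : X.Opens) (s : Sec F W) :
    appS φ.toHom W s = φ.app le_top s :=
  (exists_hom_of_basis' (X := X) (ι := X.Opens) (B := id)
    (by rw [Set.range_id]; exact Opens.isBasis_iff_nbhd.2 fun {U x} hx => ⟨U, trivial, hx, le_rfl⟩)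
    F G (fun W => φ.appL le_top) (fun _ _ h s => φ.app_res _ h s)).choose_spec W s

/-- Local homomorphisms over the whole space are morphisms. -/
noncomputable def homEquiv : LocHom F G ⊤ ≃+ (F ⟶ G) where
  toFun := toHom
  invFun f := ofHom ⊤ f
  left_inv φ := ext' fun W hW s => by rw [ofHom_app, toHom_app]
  right_inv f := hom_ext fun W s => by rw [toHom_app, ofHom_app]
  map_add' φ ψ := hom_ext fun W s => by
    rw [appS_add, toHom_app, toHom_app, toHom_app, add_app]

theorem homEquiv_app (φ : LocHom F G ⊤) (W : X.Opens) (s : Sec F W) :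
    appS (homEquiv φ) W s = φ.app le_top s := toHom_app φ W s

end LocHom

end K696.LHom
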