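import Groth.Agent.Sga67.Sec
import Mathlib.AlgebraicGeometry.Restrict
import Mathlib.AlgebraicGeometry.Morphisms.ClosedImmersion
import Mathlib.AlgebraicGeometry.Morphisms.UnderlyingMap

/-!
# Sections along morphisms, elementwise; opens of a homeomorphic thickening

* `ev f h : Γ(Y, V) →+* Γ(X, W)` for `h : W ≤ f ⁻¹ᵁ V` : the map on sections (`Scheme.Hom.appLE`);
* `im j W` : the largest open of `X` whose preimage under `j : X₀ ⟶ X` is contained in `W`; for a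
  surjective closed immersion this is an order isomorphism between the opens of `X₀` and of `X`;
* `down` : sections over `U.ι ⁻¹ᵁ W` of the open subscheme `U` as sections over `W ≤ U`.
-/

set_option autoImplicit false
universe u

open CategoryTheory CategoryTheory.Limits AlgebraicGeometry Opposite TopologicalSpace
open Groth.Agent.Sga67.Sec (Sec res resO res_res resO_resO res_self resO_self res_smul
  eq_of_locally eqO_of_locally)

namespace K696.Base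

section ev

variable {X Y Z : Scheme.{u}}

/-- The map on sections along `f`, from `V` to an open `W` mapped into `V`. -/
noncomputable def ev (f : X ⟶ Y) {V : Y.Opens} {W : X.Opens} (h : W ≤ f ⁻¹ᵁ V) :
    Γ(Y, V) →+* Γ(X, W) := (f.appLE V W h).hom

theorem ev_res (f : X ⟶ Y) {V V' : Y.Opens} {W : X.Opens} (h : W ≤ f ⁻¹ᵁ V) (hV : V' ≤ V)
    (h' : W ≤ f ⁻¹ᵁ V') (a : Γ(Y, V)) : ev f h' (resO Y hV a) = ev f h a := by
  have := congr($(Scheme.Hom.map_appLE f h' (homOfLE hV).op) a)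
  exact this

theorem res_ev (f : X ⟶ Y) {V : Y.Opens} {W W' : X.Opens} (h : W ≤ f ⁻¹ᵁ V) (hW : W' ≤ W)
    (a : Γ(Y, V)) : resO X hW (ev f h a) = ev f (hW.trans h) a := by
  have := congr($(Scheme.Hom.appLE_map f h (homOfLE hW).op) a)
  exact this

theorem ev_comp (f : X ⟶ Y) (g : Y ⟶ Z) {V : Z.Opens} {W : Y.Opens} {T : X.Opens}
    (h₁ : W ≤ g ⁻¹ᵁ V) (h₂ : T ≤ f ⁻¹ᵁ W) (h₃ : T ≤ (f ≫ g) ⁻¹ᵁ V) (a : Γ(Z, V)) :
    ev f h₂ (ev g h₁ a) = ev (f ≫ g) h₃ a := by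
  have := congr($(Scheme.Hom.appLE_comp_appLE f g V W T h₁ h₂) a)
  exact this

theorem ev_congr {f g : X ⟶ Y} (e : f = g) {V : Y.Opens} {W : X.Opens} (h : W ≤ f ⁻¹ᵁ V)
    (h' : W ≤ g ⁻¹ᵁ V) (a : Γ(Y, V)) : ev f h a = ev g h' a := by
  subst e; rfl

theorem ev_eq_app (f : X ⟶ Y) {V : Y.Opens} (a : Γ(Y, V)) (h : f ⁻¹ᵁ V ≤ f ⁻¹ᵁ V) :
    ev f h a = f.app V a := by
  have := congr($(Scheme.Hom.appLE_eq_app (f := f) (U := V)) a)
  exact this

theorem ev_eq (f : X ⟶ Y) {V : Y.Opens} {W : X.Opens} (h : W ≤ f ⁻¹ᵁ V) (a : Γ(Y, V)) :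
    ev f h a = resO X h (f.app V a) := by
  rw [← ev_eq_app f a le_rfl, res_ev]

theorem ev_id {V W : X.Opens} (h : W ≤ (𝟙 X : X ⟶ X) ⁻¹ᵁ V) (a : Γ(X, V)) :
    ev (𝟙 X) h a = resO X h a := by
  rw [ev_eq]; rfl

/-- Morphisms agreeing on points and on sections. -/
theorem hom_ext_ev {f g : X ⟶ Y} (hb : ∀ x, f x = g x)
    (H : ∀ (V : Y.Opens) (W : X.Opens) (h : W ≤ f ⁻¹ᵁ V) (h' : W ≤ g ⁻¹ᵁ V) (a : Γ(Y, V)),
      ev f h a = ev g h' a) : f = g := by
  have hb' : f.base = g.base := by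
    ext x; exact hb x
  refine Scheme.Hom.ext hb' fun V => ?_
  have h1 : f ⁻¹ᵁ V = g ⁻¹ᵁ V := by
    ext x
    change f x ∈ V ↔ g x ∈ V
    rw [hb x]
  ext a
  have := H V (g ⁻¹ᵁ V) h1.ge le_rfl a
  rw [ev_eq_app] at this
  rw [← this, ev_eq]
  rfl

end ev

section im

variable {X₀ X : Scheme.{u}} (j : X₀ ⟶ X)

/-- The largest open of `X` with preimage contained in `W`. -/
def im (W : X₀.Opens) : X.Opens := sSup {V : X.Opens | j ⁻¹ᵁ V ≤ W}

theorem le_im_iff {W : X₀.Opens} {V : X.Opens} : V ≤ im j W ↔ j ⁻¹ᵁ V ≤ W := by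
  constructor
  · intro h x hx
    have h1 : j x ∈ im j W := h hx
    rw [im, Opens.mem_sSup] at h1
    obtain ⟨V', hV', hx'⟩ := h1
    exact hV' hx'
  · intro h
    exact le_sSup h

theorem im_mono {W W' : X₀.Opens} (h : W' ≤ W) : im j W' ≤ im j W :=
  (le_im_iff j).2 (((le_im_iff j).1 le_rfl).trans h)

theorem preimage_im_le (W : X₀.Opens) : j ⁻¹ᵁ im j W ≤ W := (le_im_iff j).1 le_rfl

theorem le_im_preimage (V : X.Opens) : V ≤ im j (j ⁻¹ᵁ V) := (le_im_iff j).2 le_rfl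

theorem preimage_im [IsClosedImmersion j] (W : X₀.Opens) : j ⁻¹ᵁ im j W = W := by
  refine le_antisymm (preimage_im_le j W) ?_
  obtain ⟨V, hV, hV'⟩ := j.isClosedEmbedding.isInducing.isOpen_iff.1 W.2
  have h : j ⁻¹ᵁ (⟨V, hV⟩ : X.Opens) = W := Opens.ext hV'
  have h2 : (⟨V, hV⟩ : X.Opens) ≤ im j W := (le_im_iff j).2 h.le
  exact h.ge.trans (j.preimage_mono h2)

theorem im_preimage [Surjective j] (V : X.Opens) : im j (j ⁻¹ᵁ V) = V := by
  refine le_antisymm ?_ (le_im_preimage j V)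
  intro x hx
  obtain ⟨y, rfl⟩ := j.surjective x
  exact preimage_im_le j _ (show y ∈ j ⁻¹ᵁ im j (j ⁻¹ᵁ V) from hx)

theorem im_le_iff [IsClosedImmersion j] [Surjective j] {W : X₀.Opens} {V : X.Opens} :
    im j W ≤ V ↔ W ≤ j ⁻¹ᵁ V := by
  constructor
  · intro h
    rw [← preimage_im j W]
    exact j.preimage_mono h
  · intro h
    rw [← im_preimage j V]
    exact im_mono j h

theorem mem_im_iff [IsClosedImmersion j] {W : X₀.Opens} {x : X₀} : j x ∈ im j W ↔ x ∈ W := by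
  conv_rhs => rw [← preimage_im j W]
  rfl

end im

section down

variable {X₀ : Scheme.{u}} (U : X₀.Opens)

theorem le_image_preimage {W : X₀.Opens} (h : W ≤ U) : W ≤ U.ι ''ᵁ (U.ι ⁻¹ᵁ W) := by
  intro x hx
  exact ⟨⟨x, h hx⟩, hx, rfl⟩

theorem image_preimage_le (W : X₀.Opens) : U.ι ''ᵁ (U.ι ⁻¹ᵁ W) ≤ W := by
  rintro _ ⟨x, hx, rfl⟩; exact hx

/-- Sections over `U.ι ⁻¹ᵁ W` of the open subscheme `U`, as sections over `W ≤ U`. -/
noncomputable def down {W : X₀.Opens} (h : W ≤ U) : Γ(U.toScheme, U.ι ⁻¹ᵁ W) →+* Γ(X₀, W) :=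
  resO X₀ (le_image_preimage U h)

theorem down_ev {W : X₀.Opens} (h : W ≤ U) (a : Γ(X₀, W)) (h' : U.ι ⁻¹ᵁ W ≤ U.ι ⁻¹ᵁ W) :
    down U h (ev U.ι h' a) = a := by
  rw [ev_eq_app]
  exact (resO_resO (image_preimage_le U W) (le_image_preimage U h) a).trans (resO_self le_rfl a)

theorem ev_down {W : X₀.Opens} (h : W ≤ U) (a : Γ(U.toScheme, U.ι ⁻¹ᵁ W))
    (h' : U.ι ⁻¹ᵁ W ≤ U.ι ⁻¹ᵁ W) : ev U.ι h' (down U h a) = a := by
  rw [ev_eq_app]
  exact (resO_resO (le_image_preimage U h) (image_preimage_le U W) a).trans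
    (resO_self (X := X₀) le_rfl a)

theorem down_injective {W : X₀.Opens} (h : W ≤ U) : Function.Injective (down U h) := by
  intro a b hab
  rw [← ev_down U h a le_rfl, ← ev_down U h b le_rfl, hab]

theorem resO_down {W W' : X₀.Opens} (h : W ≤ U) (hW : W' ≤ W) (a : Γ(U.toScheme, U.ι ⁻¹ᵁ W)) :
    resO X₀ hW (down U h a) = down U (hW.trans h) (resO U.toScheme (U.ι.preimage_mono hW) a) := by
  apply (show Function.Injective (ev U.ι (le_refl (U.ι ⁻¹ᵁ W'))) from fun a b hab => by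
    rw [← down_ev U (hW.trans h) a le_rfl, ← down_ev U (hW.trans h) b le_rfl, hab])
  rw [ev_down, ev_res U.ι (U.ι.preimage_mono hW)]
  rw [← res_ev U.ι le_rfl (U.ι.preimage_mono hW), ev_down]

end down

end K696.Base
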