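import Groth.Agent.Lift.K696.Base

/-!
# Perturbing a morphism of schemes by a square-zero additive map on sections
-/

set_option autoImplicit false
universe u

open CategoryTheory CategoryTheory.Limits AlgebraicGeometry Opposite TopologicalSpace
open Groth.Agent.Sga67.Sec (Sec res resO res_res resO_resO res_self resO_self res_smul
  eq_of_locally eqO_of_locally)
open K696.Base

namespace K696.Perturb

variable {X Y : Scheme.{u}} (h : X ⟶ Y) (ε : ∀ V : Y.Opens, Γ(Y, V) →+ Γ(X, h ⁻¹ᵁ V))

/-- Data for a perturbation of `h`. -/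
structure IsPert : Prop where
  nat : ∀ (V V' : Y.Opens) (hV : V' ≤ V) (a : Γ(Y, V)),
    ε V' (resO Y hV a) = resO X (h.preimage_mono hV) (ε V a)
  one : ∀ V : Y.Opens, ε V 1 = 0
  mul : ∀ (V : Y.Opens) (a b : Γ(Y, V)), ε V (a * b) = h.app V a * ε V b + h.app V b * ε V a
  sq : ∀ (V : Y.Opens) (a b : Γ(Y, V)), ε V a * ε V b = 0

variable {h ε}

/-- The perturbed map on sections. -/
noncomputable def pApp (H : IsPert h ε) (V : Y.Opens) : Γ(Y, V) →+* Γ(X, h ⁻¹ᵁ V) where
  toFun a := h.app V a + ε V a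
  map_zero' := by rw [map_zero, map_zero, add_zero]
  map_one' := by rw [map_one, H.one, add_zero]
  map_add' a b := by rw [map_add, map_add]; ring
  map_mul' a b := by
    rw [map_mul, H.mul]
    have := H.sq V a b
    linear_combination -this

theorem pApp_apply (H : IsPert h ε) (V : Y.Opens) (a : Γ(Y, V)) :
    pApp H V a = h.app V a + ε V a := rfl

/-- The perturbed map of presheaves. -/
noncomputable def pC (H : IsPert h ε) : Y.presheaf ⟶ (TopCat.Presheaf.pushforward _ h.base).obj X.presheaf where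
  app V := CommRingCat.ofHom (pApp H V.unop)
  naturality V V' i := by
    ext a
    change pApp H V'.unop (Y.presheaf.map i a) = X.presheaf.map _ (pApp H V.unop a)
    rw [pApp_apply, pApp_apply, map_add]
    congr 1
    · exact congr($(h.naturality i) a)
    · exact H.nat V.unop V'.unop i.unop.le a

/-- The perturbed morphism of sheafed spaces. -/
noncomputable def pSh (H : IsPert h ε) : X.toSheafedSpace ⟶ Y.toSheafedSpace :=
  InducedCategory.homMk { base := h.base, c := pC H }

theorem isLocalHom_pSh (H : IsPert h ε) (x : X) : IsLocalHom ((pSh H).hom.stalkMap x).hom := by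
  constructor
  intro t ht
  obtain ⟨V, hxV, s, rfl⟩ := Y.presheaf.exists_germ_eq (x := h x) t
  have h1 := PresheafedSpace.stalkMap_germ_apply (pSh H).hom V x hxV s
  erw [h1] at ht
  change IsUnit (X.presheaf.germ (h ⁻¹ᵁ V) x hxV (h.app V s + ε V s)) at ht
  rw [map_add] at ht
  have h2 : IsNilpotent (X.presheaf.germ (h ⁻¹ᵁ V) x hxV (ε V s)) := by
    refine ⟨2, ?_⟩
    rw [pow_two, ← map_mul, H.sq, map_zero]
  have h3 : IsUnit (X.presheaf.germ (h ⁻¹ᵁ V) x hxV (h.app V s)) := by
    have := h2.neg.isUnit_add_left_of_commute ht (Commute.all _ _)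
    rwa [add_neg_cancel_right] at this
  have h4 : IsUnit (h.stalkMap x (Y.presheaf.germ V (h x) hxV s)) := by
    rw [Scheme.Hom.germ_stalkMap_apply]
    exact h3
  exact (isUnit_map_iff (h.stalkMap x).hom _).1 h4

/-- The perturbed morphism. -/
noncomputable def pHom (H : IsPert h ε) : X ⟶ Y :=
  ⟨LocallyRingedSpace.homMk (pSh H) (isLocalHom_pSh H)⟩

theorem pHom_base (H : IsPert h ε) : (pHom H).base = h.base := rfl

theorem pHom_apply (H : IsPert h ε) (x : X) : pHom H x = h x := rfl

theorem pHom_app (H : IsPert h ε) (V : Y.Opens) (a : Γ(Y, V)) :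
    (pHom H).app V a = h.app V a + ε V a := rfl

theorem ev_pHom (H : IsPert h ε) {V : Y.Opens} {W : X.Opens} (e : W ≤ pHom H ⁻¹ᵁ V)
    (e' : W ≤ h ⁻¹ᵁ V) (a : Γ(Y, V)) : ev (pHom H) e a = ev h e' a + resO X e' (ε V a) := by
  rw [ev_eq, ev_eq, pHom_app]
  exact map_add (resO X e') _ _

end K696.Perturb
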