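import Groth.Agent.Lift.K696.Diff
import Groth.Agent.Lift.K696.Perturb

/-!
# The action of derivations on morphisms out of a square-zero thickening

`addDer K h w δ` : the morphism `h + δ`; `diff (addDer δ) h = δ`.
-/

set_option autoImplicit false
universe u

open CategoryTheory CategoryTheory.Limits AlgebraicGeometry Opposite TopologicalSpace
open Groth.Agent.Sga67.Sec (Sec res resO res_res resO_resO res_self resO_self res_smul
  eq_of_locally eqO_of_locally)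
open K696.Base K696.Thk K696.Diff K696.Perturb

namespace K696.Act

variable {X₀ Y S : Scheme.{u}} {g : X₀ ⟶ Y} {q : Y ⟶ S} {M : X₀.Modules} {U : X₀.Opens}
  {T : Th U} (K : Kap T M) (h : T.X ⟶ Y) (w : T.j ≫ h = U.ι ≫ g) (δ : DerOn g q M U)

/-- The open of `X₀` corresponding to `h ⁻¹ V`. -/
def WV (V : Y.Opens) : X₀.Opens := U.ι ''ᵁ (T.j ⁻¹ᵁ (h ⁻¹ᵁ V))

theorem WV_le (V : Y.Opens) : WV h V ≤ U := U.ι_image_le _

theorem WV_mono {V V' : Y.Opens} (hV : V' ≤ V) : WV h V' ≤ WV h V :=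
  Scheme.Hom.image_mono _ (T.j.preimage_mono (h.preimage_mono hV))

include w in
theorem WV_le' (V : Y.Opens) : WV h V ≤ g ⁻¹ᵁ V := by
  rintro _ ⟨x, hx, rfl⟩
  have h3 : h (T.j x) ∈ V := hx
  have h4 : (T.j ≫ h) x = (U.ι ≫ g) x := by rw [w]
  rw [Scheme.Hom.comp_apply, Scheme.Hom.comp_apply] at h4
  rw [h4] at h3
  exact h3

theorem le_im (V : Y.Opens) : h ⁻¹ᵁ V ≤ T.im (WV h V) := (T.im_image_preimage _).ge

theorem preimage_le (V : Y.Opens) : T.j ⁻¹ᵁ (h ⁻¹ᵁ V) ≤ U.ι ⁻¹ᵁ (WV h V) :=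
  (Scheme.Hom.preimage_image_eq U.ι _).ge

/-- The perturbation defined by a derivation. -/
noncomputable def eps (V : Y.Opens) : Γ(Y, V) →+ Γ(T.X, h ⁻¹ᵁ V) :=
  (resO T.X (le_im h V)).toAddMonoidHom.comp
    ((K.κ (WV_le h V)).comp (δ.app (WV_le h V) (WV_le' h w V)))

theorem eps_apply (V : Y.Opens) (a : Γ(Y, V)) :
    eps K h w δ V a = resO T.X (le_im h V) (K.κ (WV_le h V) (δ.app (WV_le h V) (WV_le' h w V) a)) :=
  rfl

theorem isPert : IsPert h (eps K h w δ) where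
  nat V V' hV a := by
    rw [eps_apply, eps_apply, resO_resO,
      δ.res_app (WV_le h V) (WV_le' h w V) (WV_mono h hV) hV (WV_le' h w V') a,
      ← K.res_κ (WV_le h V) (WV_mono h hV), resO_resO]
  one V := by
    rw [eps_apply, DerOn.app_one, map_zero (K.κ _), map_zero]
  mul V a b := by
    have h1 : ∀ (a b : Γ(Y, V)), resO T.X (le_im h V) (K.κ (WV_le h V)
        (ev g (WV_le' h w V) a • δ.app (WV_le h V) (WV_le' h w V) b)) =
        h.app V a * eps K h w δ V b := by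
      intro a b
      rw [← T.π_ev h g w (WV_le h V) (WV_le' h w V) (T.le_of_le h g w (WV_le' h w V)) a, K.smul,
        map_mul, res_ev, eps_apply]
      congr 1
      exact ev_eq_app h a le_rfl
    rw [eps_apply, δ.leib, map_add (K.κ _), map_add, h1, h1]
  sq V a b := by
    rw [eps_apply, eps_apply, ← map_mul, K.mul_eq_zero, map_zero]

/-- The morphism `h + δ`. -/
noncomputable def addDer : T.X ⟶ Y := pHom (isPert K h w δ)

theorem ev_addDer {V : Y.Opens} {W : T.X.Opens} (e : W ≤ addDer K h w δ ⁻¹ᵁ V)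
    (e' : W ≤ h ⁻¹ᵁ V) (a : Γ(Y, V)) :
    ev (addDer K h w δ) e a = ev h e' a + resO T.X (e'.trans (le_im h V))
      (K.κ (WV_le h V) (δ.app (WV_le h V) (WV_le' h w V) a)) := by
  refine (ev_pHom (isPert K h w δ) e e' a).trans ?_
  rw [eps_apply, resO_resO]

theorem ev_addDer' {V : Y.Opens} {W : X₀.Opens} (hU : W ≤ U) (hV : W ≤ g ⁻¹ᵁ V)
    (e : T.im W ≤ addDer K h w δ ⁻¹ᵁ V) (e' : T.im W ≤ h ⁻¹ᵁ V) (a : Γ(Y, V)) :
    ev (addDer K h w δ) e a = ev h e' a + K.κ hU (δ.app hU hV a) := by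
  rw [ev_addDer K h w δ e e']
  congr 1
  have hW : W ≤ WV h V := by
    have h1 : U.ι ⁻¹ᵁ W ≤ U.ι ⁻¹ᵁ WV h V :=
      (T.le_preimage_im W).trans ((T.j.preimage_mono e').trans (preimage_le h V))
    intro x hx
    exact h1 (show (⟨x, hU hx⟩ : U.toScheme) ∈ U.ι ⁻¹ᵁ W from hx)
  have h2 := δ.res_app (WV_le h V) (WV_le' h w V) hW (le_refl V) hV a
  rw [resO_self] at h2
  rw [h2, ← K.res_κ (WV_le h V) hW]

theorem ev_j_κ {W : X₀.Opens} (hU : W ≤ U) (m : Sec M W) {W' : U.toScheme.Opens}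
    (e : W' ≤ T.j ⁻¹ᵁ T.im W) : ev T.j e (K.κ hU m) = 0 := by
  have h1 := K.π_κ hU m
  rw [T.π_apply, ← map_zero (down U hU)] at h1
  have h2 := down_injective U hU h1
  have h3 : W' ≤ U.ι ⁻¹ᵁ W := e.trans (preimage_im T.j _).le
  rw [← res_ev T.j (T.le_preimage_im W) h3, h2, map_zero]

theorem j_addDer : T.j ≫ addDer K h w δ = U.ι ≫ g := by
  rw [← w]
  refine hom_ext_ev (fun x => rfl) fun V W h1 h2 a => ?_
  rw [← ev_comp T.j (addDer K h w δ) le_rfl (show W ≤ T.j ⁻¹ᵁ (addDer K h w δ ⁻¹ᵁ V) from h1) h1 a,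
    ← ev_comp T.j h le_rfl (show W ≤ T.j ⁻¹ᵁ (h ⁻¹ᵁ V) from h2) h2 a,
    ev_addDer K h w δ le_rfl (show addDer K h w δ ⁻¹ᵁ V ≤ h ⁻¹ᵁ V from le_rfl) a, map_add]
  have h3 : addDer K h w δ ⁻¹ᵁ V ≤ T.im (WV h V) := le_im h V
  rw [ev_res T.j (h1.trans (T.j.preimage_mono h3)) h3, ev_j_κ K, add_zero]
  rfl

theorem addDer_comp : addDer K h w δ ≫ q = h ≫ q := by
  refine hom_ext_ev (fun x => rfl) fun Z W h1 h2 c => ?_
  rw [← ev_comp (addDer K h w δ) q le_rfl (show W ≤ addDer K h w δ ⁻¹ᵁ (q ⁻¹ᵁ Z) from h1) h1 c,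
    ← ev_comp h q le_rfl (show W ≤ h ⁻¹ᵁ (q ⁻¹ᵁ Z) from h2) h2 c,
    ev_addDer K h w δ h1 (show W ≤ h ⁻¹ᵁ (q ⁻¹ᵁ Z) from h2), δ.kill, map_zero (K.κ _), map_zero,
    add_zero]

theorem diff_addDer : diff K (addDer K h w δ) h (j_addDer K h w δ) w (addDer_comp K h w δ) = δ := by
  apply DerOn.ext'
  intro V W hU hV a
  apply K.κ_injective hU
  rw [κ_diff, ev_addDer' K h w δ hU hV _ (T.le_of_le h g w hV), add_sub_cancel_left]

theorem addDer_diff (h' : T.X ⟶ Y) (w' : T.j ≫ h' = U.ι ≫ g) (e : h' ≫ q = h ≫ q) :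
    addDer K h w (diff K h' h w' w e) = h' := by
  apply eq_of_diff_eq_zero K _ h' (j_addDer K h w _) w' ((addDer_comp K h w _).trans e.symm)
  have h1 := diff_add K (addDer K h w (diff K h' h w' w e)) h (j_addDer K h w _) w
    (addDer_comp K h w _) h' w' e.symm
  rw [← h1, diff_addDer, diff_symm K h h' w w' e.symm]
  simp

/-- Every derivation is the difference of `h` and a unique morphism. -/
theorem existsUnique_diff_eq : ∃! h' : T.X ⟶ Y, ∃ (w' : T.j ≫ h' = U.ι ≫ g)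
    (e : h' ≫ q = h ≫ q), diff K h' h w' w e = δ := by
  refine ⟨addDer K h w δ, ⟨j_addDer K h w δ, addDer_comp K h w δ, diff_addDer K h w δ⟩, ?_⟩
  rintro h' ⟨w', e, rfl⟩
  exact (addDer_diff K h w h' w' e).symm

end K696.Act
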