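import Groth.Agent.Dual.H339.OmegaRank

/-!
# The sheaf of differentials of a smooth quasi-separated morphism is finite locally free
-/

set_option autoImplicit false
universe u

open CategoryTheory CategoryTheory.Limits AlgebraicGeometry Opposite TopologicalSpace
open Groth.Agent Groth.Agent.Dual.H339.OmegaRank
open Groth.Agent.PerfA.TildeModel Groth.Agent.PerfA.TildeRes Groth.Agent.PerfA.PerfLocal

namespace K696.OmFree

theorem isFinLocFree_omega {X S : Scheme.{u}} (f : X ⟶ S) [QuasiSeparated f]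
    [Smooth f] : FlatMod.IsFinLocFree (Omega.sheaf f) := by
  intro x
  obtain ⟨V, hV, U, hU, hx, e, hs⟩ := Smooth.exists_isStandardSmooth f x
  let φ : Γ(S, V) ⟶ Γ(X, U) := f.appLE V U e
  let _ : Algebra Γ(S, V) Γ(X, U) := φ.hom.toAlgebra
  have : Algebra.IsStandardSmooth Γ(S, V) Γ(X, U) := hs
  have : Nonempty U := ⟨⟨x, hx⟩⟩
  have : Nontrivial Γ(X, U) := inferInstance
  let b := Module.finBasis Γ(X, U) (Ω[Γ(X, U)⁄Γ(S, V)])
  have hw : hU.fromSpec ≫ f = Spec.map φ ≫ hV.fromSpec := (hV.SpecMap_appLE_fromSpec f hU e).symm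
  let e1 := Smoothlim.ConormalRes.omegaRestrictIso hw
  let e2 : Omega.sheaf (Spec.map φ) ≅ tilde (R := Γ(X, U)) (ModuleCat.of Γ(X, U) (Ω[Γ(X, U)⁄Γ(S, V)])) :=
    Smoothlim.OmegaSpec.omegaSpecIso Γ(S, V) Γ(X, U)
  obtain ⟨e3⟩ := nonempty_iso_freeMod (R := Γ(X, U)) (ModuleCat.of Γ(X, U) (Ω[Γ(X, U)⁄Γ(S, V)])) _ b
  let e4 : (Omega.sheaf f).restrict hU.fromSpec ≅ FlatMod.freeMod (Spec Γ(X, U)) _ :=
    (Scheme.Modules.restrictFunctorIsoPullback hU.fromSpec).app (Omega.sheaf f) ≪≫ e1 ≪≫ e2 ≪≫ e3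
  exact ⟨U, _, hx, nonempty_iso_freeMod_restrict e4 U.ι hU.isoSpec.hom (by
    rw [IsAffineOpen.fromSpec, Iso.hom_inv_id_assoc])⟩

end K696.OmFree
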