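import Mathlib.LinearAlgebra.Eigenspace.Pi
import Mathlib.LinearAlgebra.Eigenspace.Semisimple
import Mathlib.LinearAlgebra.Eigenspace.Triangularizable
import Mathlib.LinearAlgebra.LinearIndependent.Lemmas
import Mathlib.RingTheory.RootsOfUnity.Basic
import Mathlib.FieldTheory.IsAlgClosed.AlgebraicClosure
import Mathlib.FieldTheory.Separable
import Mathlib.LinearAlgebra.FreeModule.PID
import Mathlib.GroupTheory.Coset.Card

/-!
# Projective representations of elementary abelian groups in characteristic zero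

A projective representation of dimension `n` over a domain of characteristic zero of an elementary abelian `p`-group of
order bigger than `p ^ (2 (n - 1))` has a nontrivial element acting by a scalar.
-/

set_option autoImplicit false

open Module

namespace K696.ProjRep

section Field

variable {K : Type*} [Field K] {V : Type*} [AddCommGroup V] [Module K V]

theorem smul_cancel [Nontrivial V] {B : Module.End K V} (hB : IsUnit B) {a b : K} (h : a • B = b • B) : a = b := by
  have hB0 : B ≠ 0 := hB.ne_zero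
  by_contra hab
  have h1 : (a - b) • B = 0 := by rw [sub_smul, h, sub_self]
  rcases smul_eq_zero.1 h1 with h2 | h2
  · exact hab (sub_eq_zero.1 h2)
  · exact hB0 h2

variable {G : Type*} [CommGroup G]

/-- A family of invertible endomorphisms multiplicative up to nonzero scalars. -/
structure IsProj (A : G → Module.End K V) : Prop where
  mul : ∀ g h : G, ∃ c : K, c ≠ 0 ∧ A g * A h = c • A (g * h)
  unit : ∀ g, IsUnit (A g)

variable {A : G → Module.End K V} (hA : IsProj A)

include hA

theorem exists_one : ∃ c : K, c ≠ 0 ∧ A 1 = c • (1 : Module.End K V) := by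
  obtain ⟨c, hc, h⟩ := hA.mul 1 1
  rw [mul_one] at h
  refine ⟨c, hc, ?_⟩
  refine (hA.unit 1).mul_right_injective ?_
  simp only [h, mul_smul_comm, mul_one]

theorem exists_pow (g : G) (n : ℕ) : ∃ c : K, c ≠ 0 ∧ A g ^ n = c • A (g ^ n) := by
  induction n with
  | zero =>
    obtain ⟨c, hc, h⟩ := exists_one hA
    refine ⟨c⁻¹, inv_ne_zero hc, ?_⟩
    rw [pow_zero, pow_zero, h, smul_smul, inv_mul_cancel₀ hc, one_smul]
  | succ n ih =>
    obtain ⟨c, hc, h⟩ := ih
    obtain ⟨c', hc', h'⟩ := hA.mul (g ^ n) g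
    exact ⟨c * c', mul_ne_zero hc hc', by rw [pow_succ, h, smul_mul_assoc, h', smul_smul, pow_succ]⟩

theorem exists_comm (g h : G) : ∃ w : K, w ≠ 0 ∧ A g * A h = w • (A h * A g) := by
  obtain ⟨c, hc, h1⟩ := hA.mul g h
  obtain ⟨c', hc', h2⟩ := hA.mul h g
  refine ⟨c * c'⁻¹, mul_ne_zero hc (inv_ne_zero hc'), ?_⟩
  rw [h1, h2, smul_smul, mul_assoc, inv_mul_cancel₀ hc', mul_one, mul_comm h g]

/-- The commutator pairing. -/
noncomputable def w (g h : G) : K := (exists_comm hA g h).choose

theorem w_ne (g h : G) : w hA g h ≠ 0 := (exists_comm hA g h).choose_spec.1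

theorem w_spec (g h : G) : A g * A h = w hA g h • (A h * A g) := (exists_comm hA g h).choose_spec.2

variable [Nontrivial V]

theorem w_mul (g h h' : G) : w hA g (h * h') = w hA g h * w hA g h' := by
  obtain ⟨c, hc, h1⟩ := hA.mul h h'
  have e1 : A g * (A h * A h') = (w hA g h * w hA g h') • (A h * A h' * A g) := by
    rw [← mul_assoc, w_spec hA g h, smul_mul_assoc, mul_assoc, w_spec hA g h', mul_smul_comm, smul_smul, mul_assoc]
  have e2 : A g * (A h * A h') = w hA g (h * h') • (A h * A h' * A g) := by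
    rw [h1, mul_smul_comm, w_spec hA g (h * h'), smul_mul_assoc, smul_comm]
  refine (smul_cancel (B := A h * A h' * A g) (((hA.unit h).mul (hA.unit h')).mul (hA.unit g)) ?_).symm
  rw [← e1, ← e2]

theorem w_mul' (g g' h : G) : w hA (g * g') h = w hA g h * w hA g' h := by
  obtain ⟨c, hc, h1⟩ := hA.mul g g'
  have e1 : A g * A g' * A h = (w hA g h * w hA g' h) • (A h * (A g * A g')) := by
    rw [mul_assoc, w_spec hA g' h, mul_smul_comm, ← mul_assoc, w_spec hA g h, smul_mul_assoc, smul_smul, mul_assoc,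
      mul_comm (w hA g' h)]
  have e2 : A g * A g' * A h = w hA (g * g') h • (A h * (A g * A g')) := by
    rw [h1, smul_mul_assoc, w_spec hA (g * g') h, mul_smul_comm, smul_comm]
  refine (smul_cancel (B := A h * (A g * A g')) ((hA.unit h).mul ((hA.unit g).mul (hA.unit g'))) ?_).symm
  rw [← e1, ← e2]

theorem w_one (g : G) : w hA g 1 = 1 := by
  have h := w_mul hA g 1 1
  rw [mul_one] at h
  exact (mul_eq_left₀ (w_ne hA g 1)).1 h.symm

theorem w_one' (g : G) : w hA 1 g = 1 := by
  have h := w_mul' hA 1 1 g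
  rw [mul_one] at h
  exact (mul_eq_left₀ (w_ne hA 1 g)).1 h.symm

theorem commute_iff (g h : G) : Commute (A g) (A h) ↔ w hA g h = 1 := by
  constructor
  · intro hc
    refine smul_cancel (B := A h * A g) ((hA.unit h).mul (hA.unit g)) ?_
    rw [← w_spec hA g h, one_smul]
    exact hc
  · intro hw
    have := w_spec hA g h
    rw [hw, one_smul] at this
    exact this

/-- The character of a subgroup attached to an element. -/
noncomputable def chr (H : Subgroup G) (g : G) : H →* K where
  toFun h := w hA g h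
  map_one' := w_one hA g
  map_mul' h h' := w_mul hA g h h'

theorem w_self (g : G) : w hA g g = 1 := (commute_iff hA g g).1 (Commute.refl _)

theorem w_symm (g h : G) (hw : w hA g h = 1) : w hA h g = 1 :=
  (commute_iff hA h g).1 ((commute_iff hA g h).2 hw).symm

theorem w_inv (g h : G) (hw : w hA g h = 1) : w hA g⁻¹ h = 1 := by
  have h1 := w_mul' hA g g⁻¹ h
  rw [mul_inv_cancel, w_one', hw, one_mul] at h1
  exact h1.symm

/-- A maximal isotropic subgroup. -/
theorem exists_maximal [Finite G] : ∃ H : Subgroup G, (∀ g ∈ H, ∀ h ∈ H, w hA g h = 1) ∧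
    ∀ g : G, (∀ h ∈ H, w hA g h = 1) → g ∈ H := by
  classical
  obtain ⟨H, hH⟩ := (Set.toFinite {H : Subgroup G | ∀ g ∈ H, ∀ h ∈ H, w hA g h = 1}).exists_maximal
    ⟨⊥, fun g hg h hh => by rw [Subgroup.mem_bot.1 hg]; exact w_one' hA h⟩
  refine ⟨H, hH.prop, fun g hg => ?_⟩
  have hle : H ≤ H ⊔ Subgroup.zpowers g := le_sup_left
  have hmem : g ∈ H ⊔ Subgroup.zpowers g := Subgroup.mem_sup_right (Subgroup.mem_zpowers g)
  refine hH.le_of_ge (y := H ⊔ Subgroup.zpowers g) ?_ hle hmem
  have hz : ∀ a : G, w hA a g = 1 → ∀ n : ℤ, w hA a (g ^ n) = 1 := by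
    intro a ha n
    have : g ^ n ∈ (chr hA ⊤ a).ker.map (Subgroup.subtype ⊤) := by
      rw [← SetLike.mem_coe, Subgroup.coe_map]
      refine ⟨(⟨g, trivial⟩ : (⊤ : Subgroup G)) ^ n, ?_, by simp⟩
      exact Subgroup.zpow_mem _ ha n
    obtain ⟨x, hx, hx'⟩ := this
    rw [← hx']
    exact hx
  intro a ha b hb
  rw [Subgroup.mem_sup] at ha hb
  obtain ⟨a, ha, c, ⟨m, rfl⟩, rfl⟩ := ha
  obtain ⟨b, hb, d, ⟨n, rfl⟩, rfl⟩ := hb
  have e1 : w hA a g = 1 := w_symm hA g a (hg a ha)
  have e2 : w hA b g = 1 := w_symm hA g b (hg b hb)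
  have e3 : w hA (g ^ m) b = 1 := w_symm hA _ _ (hz b e2 m)
  have e4 : w hA (g ^ m) (g ^ n) = 1 := w_symm hA _ _ (hz (g ^ n) (w_symm hA _ _ (hz g (w_self hA g) n)) m)
  change w hA (a * g ^ m) (b * g ^ n) = 1
  rw [w_mul' hA, w_mul hA, w_mul hA, hH.prop a ha b hb, hz a e1 n, e3, e4]
  simp

theorem card_le [Finite G] (H : Subgroup G) (hH : ∀ g : G, (∀ h ∈ H, w hA g h = 1) → g ∈ H) :
    Nat.card G ≤ Nat.card H * Nat.card H := by
  classical
  have : Fintype H := Fintype.ofFinite H
  have hli := linearIndependent_monoidHom H K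
  have hfin : Finite (H →* K) := hli.finite
  have : Fintype (H →* K) := Fintype.ofFinite _
  have h1 : Nat.card (H →* K) ≤ Nat.card H := by
    have := hli.fintype_card_le_finrank
    rw [finrank_fintype_fun_eq_card] at this
    rwa [Nat.card_eq_fintype_card, Nat.card_eq_fintype_card]
  have h2 : Nat.card (G ⧸ H) ≤ Nat.card (H →* K) := by
    refine Nat.card_le_card_of_injective (fun x => chr hA H x.out) fun x y hxy => ?_
    have hmem : (x.out)⁻¹ * y.out ∈ H := by
      refine hH _ fun h hh => ?_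
      have h3 : w hA x.out h = w hA y.out h := DFunLike.congr_fun hxy ⟨h, hh⟩
      have h4 : w hA ((x.out)⁻¹ * x.out) h = 1 := by rw [inv_mul_cancel, w_one']
      rw [w_mul'] at h4 ⊢
      rw [← h3, h4]
    rw [← x.out_eq', ← y.out_eq']
    exact QuotientGroup.eq.2 hmem
  rw [Subgroup.card_eq_card_quotient_mul_card_subgroup H]
  exact Nat.mul_le_mul (h2.trans h1) le_rfl


/-- Some nontrivial element acts by a scalar. -/
theorem exists_scalar [Finite G] [FiniteDimensional K V] [IsAlgClosed K] {p : ℕ} [Fact p.Prime] (hpK : (p : K) ≠ 0)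
    (hp : ∀ g : G, g ^ p = 1) (hG : p ^ (2 * (finrank K V - 1)) < Nat.card G) :
    ∃ g : G, g ≠ 1 ∧ ∃ c : K, A g = c • (1 : Module.End K V) := by
  classical
  obtain ⟨H, hH, hmax⟩ := exists_maximal hA
  have hcard : p ^ (finrank K V - 1) < Nat.card H := by
    have h1 := card_le hA H hmax
    by_contra h2
    have h3 : Nat.card H * Nat.card H ≤ p ^ (finrank K V - 1) * p ^ (finrank K V - 1) :=
      Nat.mul_le_mul (not_lt.1 h2) (not_lt.1 h2)
    rw [← pow_add, ← two_mul] at h3
    exact absurd (h1.trans h3) (not_le.2 hG)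
  -- eigenspaces
  have hpow : ∀ g : G, ∃ a : K, a ≠ 0 ∧ A g ^ p = a • (1 : Module.End K V) := by
    intro g
    obtain ⟨c, hc, h⟩ := exists_pow hA g p
    obtain ⟨c', hc', h'⟩ := exists_one hA
    exact ⟨c * c', mul_ne_zero hc hc', by rw [h, hp, h', smul_smul]⟩
  choose a ha0 ha using hpow
  have hss : ∀ g : G, (A g).IsSemisimple := by
    intro g
    refine Module.End.isSemisimple_of_squarefree_aeval_eq_zero (p := Polynomial.X ^ p - Polynomial.C (a g)) ?_ ?_
    · exact (Polynomial.separable_X_pow_sub_C (a g) hpK (ha0 g)).squarefree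
    · rw [map_sub, map_pow, Polynomial.aeval_X, Polynomial.aeval_C, ha, Algebra.algebraMap_eq_smul_one, sub_self]
  have hmg : ∀ (g : G) (μ : K), (A g).maxGenEigenspace μ = (A g).eigenspace μ := fun g μ =>
    (hss g).isFinitelySemisimple.maxGenEigenspace_eq_eigenspace μ
  have hcomm : ∀ g h : H, Commute (A g.1) (A h.1) := fun g h => (commute_iff hA _ _).2 (hH _ g.2 _ h.2)
  let f : H → Module.End K V := fun h => A h.1
  have hmaps : ∀ i j φ, Set.MapsTo (f i) ((f j).maxGenEigenspace φ) ((f j).maxGenEigenspace φ) := fun i j φ =>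
    Module.End.mapsTo_maxGenEigenspace_of_comm (hcomm j i) φ
  have hind := Module.End.independent_iInf_maxGenEigenspace_of_forall_mapsTo f hmaps
  have htop := Module.End.iSup_iInf_maxGenEigenspace_eq_top_of_forall_mapsTo f hmaps
    (fun i => Module.End.iSup_maxGenEigenspace_eq_top (f i))
  set W : (H → K) → Submodule K V := fun χ => ⨅ i, (f i).maxGenEigenspace (χ i) with hW
  have hWmem : ∀ (χ : H → K) (v : V), v ∈ W χ → ∀ h : H, A h.1 v = χ h • v := by
    intro χ v hv h
    have h1 := (Submodule.mem_iInf _).1 hv h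
    rw [hmg] at h1
    exact Module.End.mem_eigenspace_iff.1 h1
  have : Fintype { χ // W χ ≠ ⊥ } := hind.fintypeNeBotOfFiniteDimensional
  have hS : Fintype.card { χ // W χ ≠ ⊥ } ≤ finrank K V := hind.subtype_ne_bot_le_finrank
  obtain ⟨χ₀, hχ₀⟩ : ∃ χ, W χ ≠ ⊥ := by
    by_contra hcon
    push Not at hcon
    rw [iSup_congr hcon, iSup_bot] at htop
    exact bot_ne_top htop
  -- the values of the characters
  have hval : ∀ χ, W χ ≠ ⊥ → ∀ h : H, χ h ^ p = a h.1 := by
    intro χ hχ h
    obtain ⟨v, hv, hv0⟩ := Submodule.exists_mem_ne_zero_of_ne_bot hχ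
    have h1 : ∀ n : ℕ, (A h.1 ^ n) v = χ h ^ n • v := by
      intro n
      induction n with
      | zero => simp
      | succ n ih => rw [pow_succ', Module.End.mul_apply, ih, map_smul, hWmem χ v hv h, smul_smul, pow_succ]
    have h2 := h1 p
    rw [ha] at h2
    simp only [LinearMap.smul_apply, Module.End.one_apply] at h2
    have h3 : (χ h ^ p - a h.1) • v = 0 := by rw [sub_smul, ← h2, sub_self]
    rcases smul_eq_zero.1 h3 with h4 | h4
    · exact sub_eq_zero.1 h4
    · exact absurd h4 hv0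
  have hne : ∀ χ, W χ ≠ ⊥ → ∀ h : H, χ h ≠ 0 := by
    intro χ hχ h h0
    have h1 := hval χ hχ h
    rw [h0, zero_pow (Fact.out (p := p.Prime)).ne_zero] at h1
    exact ha0 _ h1.symm
  have hp0 : p ≠ 0 := (Fact.out (p := p.Prime)).ne_zero
  have : NeZero p := ⟨hp0⟩
  let T := { x : { χ // W χ ≠ ⊥ } // x ≠ ⟨χ₀, hχ₀⟩ }
  let Φ : H → (T → rootsOfUnity p K) := fun h x => rootsOfUnity.mkOfPowEq (x.1.1 h / χ₀ h) (by
    rw [div_pow, hval _ x.1.2, hval _ hχ₀, div_self (ha0 _)])
  have hnin : ¬ Function.Injective Φ := by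
    intro hinj
    have hfr : Finite (rootsOfUnity p K) := inferInstance
    have h1 := Nat.card_le_card_of_injective Φ hinj
    rw [Nat.card_fun] at h1
    have h2 : Nat.card T = Fintype.card { χ // W χ ≠ ⊥ } - 1 := by
      rw [Nat.card_eq_fintype_card]
      exact Set.card_ne_eq _
    have h3 : Nat.card (rootsOfUnity p K) ^ Nat.card T ≤ p ^ (finrank K V - 1) :=
      (Nat.pow_le_pow_left (card_rootsOfUnity K p) _).trans
        (Nat.pow_le_pow_right (Nat.pos_of_ne_zero hp0) (by omega))
    exact absurd (h1.trans h3) (not_le.2 hcard)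
  simp only [Function.Injective, not_forall] at hnin
  obtain ⟨h, h', hΦ, hne'⟩ := hnin
  have hratio : ∀ χ, W χ ≠ ⊥ → χ h / χ₀ h = χ h' / χ₀ h' := by
    intro χ hχ
    by_cases hx : χ = χ₀
    · subst hx
      rw [div_self (hne _ hχ _), div_self (hne _ hχ _)]
    · have h1 := congrFun hΦ ⟨⟨χ, hχ⟩, fun h2 => hx (congrArg Subtype.val h2)⟩
      have h2 := congrArg (fun z : rootsOfUnity p K => ((z : Kˣ) : K)) h1
      simpa [Φ] using h2
  have hAh : A h.1 = (χ₀ h / χ₀ h') • A h'.1 := by
    have hle : ∀ χ, W χ ≤ LinearMap.ker (A h.1 - (χ₀ h / χ₀ h') • A h'.1) := by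
      intro χ v hv
      by_cases hχ : W χ = ⊥
      · rw [hχ, Submodule.mem_bot] at hv
        rw [hv]; exact Submodule.zero_mem _
      · rw [LinearMap.mem_ker, LinearMap.sub_apply, LinearMap.smul_apply, hWmem χ v hv, hWmem χ v hv, smul_smul,
          sub_eq_zero]
        congr 1
        have h1 := hratio χ hχ
        rw [div_eq_div_iff (hne _ hχ₀ _) (hne _ hχ₀ _)] at h1
        rw [div_mul_eq_mul_div, eq_div_iff (hne _ hχ₀ _), h1]
        ring
    have h1 := iSup_le hle
    rw [htop, top_le_iff, LinearMap.ker_eq_top] at h1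
    exact sub_eq_zero.1 h1
  refine ⟨h'.1⁻¹ * h.1, ?_, ?_⟩
  · intro h1
    exact hne' (Subtype.ext (inv_mul_eq_one.1 h1).symm)
  · obtain ⟨c, hc, e1⟩ := hA.mul h'.1⁻¹ h.1
    obtain ⟨c', hc', e2⟩ := hA.mul h'.1⁻¹ h'.1
    obtain ⟨c1, hc1, e3⟩ := exists_one hA
    rw [inv_mul_cancel, e3] at e2
    refine ⟨c⁻¹ * ((χ₀ h / χ₀ h') * (c' * c1)), ?_⟩
    have e4 : A (h'.1⁻¹ * h.1) = c⁻¹ • (A h'.1⁻¹ * A h.1) := by rw [e1, smul_smul, inv_mul_cancel₀ hc, one_smul]
    rw [e4, hAh, mul_smul_comm, e2, smul_smul, smul_smul, smul_smul]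
    congr 1
    ring

end Field

section Ring

/-- Over a domain of characteristic zero: a projective representation on a finite free module of an elementary abelian
`p`-group of order bigger than `p ^ (2 (n - 1))` has a nontrivial element acting by a scalar. -/
theorem exists_scalar_ring {R : Type*} [CommRing R] [IsDomain R] {p : ℕ} [Fact p.Prime] (hpR : (p : R) ≠ 0)
    {M : Type*} [AddCommGroup M] [Module R M] [Module.Free R M] [Module.Finite R M] [Nontrivial M]
    {G : Type*} [CommGroup G] [Finite G] (hp : ∀ g : G, g ^ p = 1)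
    (hG : p ^ (2 * (finrank R M - 1)) < Nat.card G) (A : G → Module.End R M) (hu : ∀ g, IsUnit (A g))
    (hA : ∀ g h, ∃ c : R, c ≠ 0 ∧ A g * A h = c • A (g * h)) :
    ∃ g : G, g ≠ 1 ∧ ∃ c : R, ∀ m : M, A g m = c • m := by
  classical
  let K := AlgebraicClosure (FractionRing R)
  have hinj : Function.Injective (algebraMap R K) := by
    rw [IsScalarTower.algebraMap_eq R (FractionRing R) K]
    exact (algebraMap (FractionRing R) K).injective.comp (IsFractionRing.injective R (FractionRing R))
  let b := Module.Free.chooseBasis R M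
  let V := TensorProduct R K M
  let bV := b.baseChange K
  have : Module.Free K V := inferInstance
  have : Module.Finite K V := inferInstance
  have hV : finrank K V = finrank R M := Module.finrank_baseChange
  have : Nontrivial V := by
    have : 0 < finrank K V := by rw [hV]; exact Module.finrank_pos
    exact Module.nontrivial_of_finrank_pos this
  let A' : G → Module.End K V := fun g => (A g).baseChange K
  have hA' : IsProj A' := by
    refine ⟨fun g h => ?_, fun g => ?_⟩
    · obtain ⟨c, hc, h1⟩ := hA g h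
      refine ⟨algebraMap R K c, fun h2 => hc (hinj (by rw [h2, map_zero])), ?_⟩
      change (A g).baseChange K * (A h).baseChange K = _
      rw [← LinearMap.baseChange_mul, h1, LinearMap.baseChange_smul, algebraMap_smul]
    · exact (hu g).map (Module.End.baseChangeHom R K M)
  obtain ⟨g, hg, c, hc⟩ := exists_scalar hA' (p := p) (fun h2 => hpR (hinj (by rw [map_natCast, h2, map_zero]))) hp
    (by rw [hV]; exact hG)
  refine ⟨g, hg, ?_⟩
  have key : ∀ i j, algebraMap R K (b.repr (A g (b i)) j) = c * algebraMap R K (b.repr (b i) j) := by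
    intro i j
    have h1 : A' g ((1 : K) ⊗ₜ[R] b i) = c • ((1 : K) ⊗ₜ[R] b i) := by
      rw [hc]; rfl
    have h2 : A' g ((1 : K) ⊗ₜ[R] b i) = (1 : K) ⊗ₜ[R] A g (b i) := LinearMap.baseChange_tmul _ _ _
    rw [h2] at h1
    have h3 := congrArg (fun x => (b.baseChange K).repr x j) h1
    simpa [Algebra.smul_def] using h3
  obtain ⟨i₀⟩ := b.index_nonempty
  refine ⟨b.repr (A g (b i₀)) i₀, fun m => ?_⟩
  have hc' : algebraMap R K (b.repr (A g (b i₀)) i₀) = c := by
    rw [key i₀ i₀]; simp
  have h4 : A g = (b.repr (A g (b i₀)) i₀) • (1 : Module.End R M) := by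
    refine b.ext fun i => ?_
    refine b.repr.injective (Finsupp.ext fun j => hinj ?_)
    rw [key i j]
    simp only [LinearMap.smul_apply, Module.End.one_apply, map_smul, Finsupp.smul_apply, smul_eq_mul, map_mul]
    rw [hc']
  rw [h4]
  simp

end Ring

end K696.ProjRep
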