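import Groth.Agent.Etbc.H205.KA1
import Groth.Agent.Ega4B.ArcPrime
import Groth.Agent.S0549
import Mathlib.RingTheory.AdicCompletion.LocalRing
import Mathlib.FieldTheory.IsAlgClosed.Basic

/-!
# Reduction to complete discrete valuation rings

A Noetherian local domain in which `p` is a nonzero element of the maximal ideal, with algebraically closed residue
field, has a local homomorphism to a complete discrete valuation ring with the same residue field in which `p` is not
zero.
-/

set_option autoImplicit false
universe u

open IsLocalRing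

namespace K696.DvrRed

theorem exists_completion (R : Type u) [CommRing R] [IsDomain R] [IsDiscreteValuationRing R] :
    ∃ (R' : Type u) (_ : CommRing R') (_ : IsDomain R') (_ : IsDiscreteValuationRing R') (φ : R →+* R')
      (_ : IsLocalHom φ), Function.Bijective (IsLocalRing.ResidueField.map φ) ∧
        IsAdicComplete (IsLocalRing.maximalIdeal R') R' ∧ Function.Injective φ := by
  obtain ⟨h1, h2⟩ := (Groth.Agent.S0549.result R).mp ⟨inferInstance, inferInstance⟩
  have hff : Module.FaithfullyFlat R (AdicCompletion (IsLocalRing.maximalIdeal R) R) :=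
    Module.FaithfullyFlat.of_flat_of_isLocalHom
  exact ⟨AdicCompletion (IsLocalRing.maximalIdeal R) R, inferInstance, h1, h2, algebraMap R _,
    inferInstance, AdicCompletion.residueField_map_bijective R, inferInstance,
    FaithfulSMul.algebraMap_injective R _⟩

theorem exists_dvr (R : Type u) [CommRing R] [IsLocalRing R] [IsNoetherianRing R] (a : R)
    (ha0 : ¬ IsNilpotent a) (ham : a ∈ maximalIdeal R) [IsAlgClosed (ResidueField R)] :
    ∃ (V : Type u) (_ : CommRing V) (_ : IsDomain V) (_ : IsDiscreteValuationRing V) (φ : R →+* V) (_ : IsLocalHom φ),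
      Function.Bijective (ResidueField.map φ) ∧ IsAdicComplete (maximalIdeal V) V ∧ φ a ≠ 0 := by
  obtain ⟨P, hP, haP, hdim⟩ := Groth.Agent.Ega4B.ArcPrime.exists_prime_krullDimLE_one R a ha0
  let D := R ⧸ P
  have hD : IsDomain D := inferInstance
  have hDl : IsLocalRing D := inferInstance
  have hloc : IsLocalHom (Ideal.Quotient.mk P) :=
    IsLocalHom.of_surjective (Ideal.Quotient.mk P) Ideal.Quotient.mk_surjective
  have hmax : maximalIdeal D ≠ ⊥ := by
    intro h
    have h1 : Ideal.Quotient.mk P a ∈ maximalIdeal D := by
      rw [mem_maximalIdeal]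
      exact map_mem_nonunits_iff (Ideal.Quotient.mk P) a |>.2 ((mem_maximalIdeal a).1 ham)
    rw [h, Ideal.mem_bot, Ideal.Quotient.eq_zero_iff_mem] at h1
    exact haP h1
  obtain ⟨V, _, _, _, _, _, _, _, hlocV, hfin⟩ := Groth.Agent.Etbc.H205.KA1.exists_dvr D (FractionRing D) hmax
  obtain ⟨V', _, _, _, ψ, hψ, hb, hc, hinj⟩ := exists_completion V
  have hbD : Function.Bijective (ResidueField.map (Ideal.Quotient.mk P)) := by
    refine ⟨(ResidueField.map (Ideal.Quotient.mk P)).injective, fun x => ?_⟩
    obtain ⟨y, rfl⟩ := residue_surjective x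
    obtain ⟨z, rfl⟩ := Ideal.Quotient.mk_surjective y
    exact ⟨residue R z, rfl⟩
  have hacD : IsAlgClosed (ResidueField D) :=
    IsAlgClosed.of_ringEquiv _ _ (RingEquiv.ofBijective _ hbD)
  have hbV : Function.Bijective (ResidueField.map (algebraMap D V)) := by
    have h1 : Algebra.IsIntegral (ResidueField D) (ResidueField V) := inferInstance
    exact IsAlgClosed.algebraMap_bijective_of_isIntegral (k := ResidueField D) (K := ResidueField V)
  have hl1 : IsLocalHom ((algebraMap D V).comp (Ideal.Quotient.mk P)) := inferInstance
  have hl2 : IsLocalHom (ψ.comp ((algebraMap D V).comp (Ideal.Quotient.mk P))) := inferInstance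
  refine ⟨V', inferInstance, inferInstance, inferInstance, ψ.comp ((algebraMap D V).comp (Ideal.Quotient.mk P)), hl2,
    ?_, hc, ?_⟩
  · have e : ⇑(ResidueField.map (ψ.comp ((algebraMap D V).comp (Ideal.Quotient.mk P)))) =
        ResidueField.map ψ ∘ ResidueField.map (algebraMap D V) ∘ ResidueField.map (Ideal.Quotient.mk P) := by
      funext x
      obtain ⟨y, rfl⟩ := residue_surjective x
      rfl
    rw [e]
    exact hb.comp (hbV.comp hbD)
  · intro h
    have h1 : algebraMap D V (Ideal.Quotient.mk P a) = 0 := hinj (by rw [map_zero]; exact h)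
    have h2 : Function.Injective (algebraMap D V) := by
      have h3 : Function.Injective (algebraMap D (FractionRing D)) := IsFractionRing.injective D (FractionRing D)
      rw [IsScalarTower.algebraMap_eq D V (FractionRing D)] at h3
      exact Function.Injective.of_comp h3
    exact haP (Ideal.Quotient.eq_zero_iff_mem.1 (h2 (by rw [h1, map_zero])))

end K696.DvrRed
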