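import Groth.Agent.Picfga.SecGraph
import Groth.Agent.Divis.IdealComap
import Mathlib.AlgebraicGeometry.IdealSheaf.Functorial

/-!
# Nilpotent closed immersions

`surjective_of_pow`, `pow_of_isPullback`.
-/

set_option autoImplicit false
universe u

open CategoryTheory CategoryTheory.Limits AlgebraicGeometry Opposite TopologicalSpace

namespace K696.SqZ

variable {X Z : Scheme.{u}}

theorem surjective_of_pow_succ (j : Z ⟶ X) [IsClosedImmersion j] (n : ℕ)
    (h : j.ker ^ (n + 1) = ⊥) : Surjective j := by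
  refine ⟨fun x => ?_⟩
  have hr : (j.ker.support : Set X) = Set.range j := by
    rw [Scheme.Hom.support_ker, j.isClosedEmbedding.isClosed_range.closure_eq]
  have h1 : j.ker.support = ⊤ := by
    rw [← Scheme.IdealSheafData.support_pow_succ j.ker n, h, Scheme.IdealSheafData.support_bot]
  rw [h1] at hr
  have h2 : x ∈ Set.range j := by
    rw [← hr]
    trivial
  exact h2

theorem surjective_of_sq (j : Z ⟶ X) [IsClosedImmersion j] (h : j.ker ^ 2 = ⊥) : Surjective j :=
  surjective_of_pow_succ j 1 h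

theorem pow_of_isPullback {X' Z' : Scheme.{u}} {j : Z ⟶ X} {i : Z' ⟶ X'} {f : X ⟶ X'}
    {f₀ : Z ⟶ Z'} [IsClosedImmersion i] (h : IsPullback j f₀ f i) (n : ℕ) (hi : i.ker ^ n = ⊥) :
    j.ker ^ n = ⊥ := by
  rw [Groth.Agent.Picfga.SecGraph.ker_eq_comap_of_isPullback h.flip,
    ← Groth.Agent.Divis.IdealComap.comap_pow, hi, Scheme.IdealSheafData.comap_bot]

theorem ker_subschemeι_pow {I : X.IdealSheafData} {n : ℕ} (h : I ^ n = ⊥) :
    I.subschemeι.ker ^ n = ⊥ := by
  rw [Scheme.IdealSheafData.ker_subschemeι, h]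

end K696.SqZ
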