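import Groth.Agent.Smoothlim.ConormalRes
import Groth.Agent.PerfA.IdealModule
import Groth.Agent.Ega1.ClosedKill
import Groth.Agent.Sga67.Sec
import Groth.Agent.Lift.K696.Base

/-!
# Sections of the ideal module

`ival I V : Γ(idealMod I, V) → Γ(X, V)`, injective, linear, compatible with restriction; for a quasi-compact
`j`, the kernel of `j^#` on any open is the image of `ival j.ker`.
`kills_idealMod`: `I² = 0` implies `I · I = 0` as a module.
-/

set_option autoImplicit false
universe u

open CategoryTheory CategoryTheory.Limits AlgebraicGeometry Opposite TopologicalSpace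
open Groth.Agent.Sga67.Sec
open K696.Base

namespace K696.IMod

variable {X : Scheme.{u}} (I : X.IdealSheafData)

/-- Sections of the ideal module as functions. -/
noncomputable def ival (V : X.Opens) : Sec (ClSub.idealMod I) V →+ Γ(X, V) :=
  AddMonoidHom.mk' (fun x => Groth.Agent.PerfA.IdealModule.val I x) fun x y =>
    (Groth.Agent.CohqB.FiniteType2.appLinear (ClSub.idealModι I) V).map_add x y

theorem ival_injective (V : X.Opens) : Function.Injective (ival I V) :=
  Groth.Agent.PerfA.IdealModule.val_injective I V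

theorem ival_smul {V : X.Opens} (a : Γ(X, V)) (x : Sec (ClSub.idealMod I) V) :
    ival I V (a • x) = a * ival I V x := Groth.Agent.PerfA.IdealModule.val_smul I a x

theorem ival_res {U V : X.Opens} (h : V ≤ U) (x : Sec (ClSub.idealMod I) U) :
    ival I V (res _ h x) = resO X h (ival I U x) := Groth.Agent.PerfA.IdealModule.val_res I h x

theorem app_eq_zero_iff {Z : Scheme.{u}} (j : Z ⟶ X) [QuasiCompact j] (V : X.Opens)
    (a : Γ(X, V)) : j.app V a = 0 ↔ ∃ c, ival j.ker V c = a := by
  rw [Groth.Agent.Smoothlim.ConormalRes.app_eq_zero_iff_imageι]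
  exact (Groth.Agent.PerfA.IdealModule.exact_app j.ker V) a

theorem ev_eq_zero_iff {Z : Scheme.{u}} (j : Z ⟶ X) [QuasiCompact j] {V : X.Opens}
    {W : Z.Opens} (h : j ⁻¹ᵁ V = W) (a : Γ(X, V)) : ev j h.ge a = 0 ↔ ∃ c, ival j.ker V c = a := by
  subst h
  rw [ev_eq_app, app_eq_zero_iff]

theorem ival_mem (A : X.affineOpens) (x : Sec (ClSub.idealMod I) A.1) :
    ival I A.1 x ∈ I.ideal A := Groth.Agent.PerfA.IdealModule.val_mem I A x

theorem exists_ival_eq (A : X.affineOpens) {a : Γ(X, A.1)} (ha : a ∈ I.ideal A) :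
    ∃ x, ival I A.1 x = a := Groth.Agent.PerfA.IdealModule.exists_val_eq I A ha

theorem kills_idealMod (h : I ^ 2 = ⊥) : Groth.Agent.Ega1.ClosedKill.Kills I (ClSub.idealMod I) := by
  intro A a ha s
  have h1 : a * ival I A.1 s ∈ (I ^ 2).ideal A := by
    rw [pow_two]
    exact Ideal.mul_mem_mul ha (ival_mem I A s)
  rw [h] at h1
  exact (injective_iff_map_eq_zero (ival I A.1)).1 (ival_injective I A.1) (a • s)
    ((ival_smul I a s).trans h1)

end K696.IMod
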