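import Groth.Agent.Lift.K696.LHom
import Groth.Agent.Lift.K696.Base

/-!
# Local homomorphisms as morphisms into `j_* j^* G`

`cut U G` is `j_* (G|_U)` for `j : U ⟶ X` the inclusion; `cutEquiv : (F ⟶ cut U G) ≃+ LocHom F G U`.
-/

set_option autoImplicit false
universe u

open CategoryTheory CategoryTheory.Limits AlgebraicGeometry Opposite TopologicalSpace
open Groth.Agent.Sga67.Sec
open K696.Base K696.LHom

namespace K696.Cut

variable {X : Scheme.{u}}

/-- `j_* (G|_U)`. -/
noncomputable def cut (U : X.Opens) (G : X.Modules) : X.Modules :=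
  (Scheme.Modules.pushforward U.ι).obj (G.restrict U.ι)

variable (U : X.Opens) (G : X.Modules)

/-- Sections of `cut U G`. -/
noncomputable def cutSec (W : X.Opens) : Sec (cut U G) W →+ Sec G (U.ι ''ᵁ (U.ι ⁻¹ᵁ W)) :=
  AddMonoidHom.mk' (fun s => s) fun _ _ => rfl

/-- Sections of `cut U G`. -/
noncomputable def secCut (W : X.Opens) : Sec G (U.ι ''ᵁ (U.ι ⁻¹ᵁ W)) →+ Sec (cut U G) W :=
  AddMonoidHom.mk' (fun s => s) fun _ _ => rfl

@[simp] theorem cutSec_secCut (W : X.Opens) (s : Sec G (U.ι ''ᵁ (U.ι ⁻¹ᵁ W))) :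
    cutSec U G W (secCut U G W s) = s := rfl

@[simp] theorem secCut_cutSec (W : X.Opens) (s : Sec (cut U G) W) :
    secCut U G W (cutSec U G W s) = s := rfl

theorem cutSec_smul (W : X.Opens) (a : Γ(X, W)) (s : Sec (cut U G) W) :
    cutSec U G W (a • s) = resO X (image_preimage_le U W) a • cutSec U G W s := by
  have h1 : (U.ι.appIso (U.ι ⁻¹ᵁ W)).inv (U.ι.app W a) = resO X (image_preimage_le U W) a := by
    have h2 : U.ι.appLE W (U.ι ⁻¹ᵁ W) le_rfl ≫ (U.ι.appIso (U.ι ⁻¹ᵁ W)).inv =
        X.presheaf.map (homOfLE (image_preimage_le U W)).op := by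
      rw [Scheme.Hom.appLE_appIso_inv]
    have h3 := congr($h2 a)
    rw [← Scheme.Hom.app_eq_appLE] at h3
    exact h3
  rw [← h1]
  rfl

theorem cutSec_res {W W' : X.Opens} (h : W' ≤ W) (s : Sec (cut U G) W) :
    cutSec U G W' (res (cut U G) h s) =
      res G ((U.ι.image_mono (U.ι.preimage_mono h))) (cutSec U G W s) := by
  rfl

variable {U G}

theorem image_preimage_le' (W : X.Opens) : U.ι ''ᵁ (U.ι ⁻¹ᵁ W) ≤ U := by
  rintro _ ⟨x, -, rfl⟩
  exact x.2

theorem cutSec_injective (W : X.Opens) : Function.Injective (cutSec U G W) := fun _ _ h => h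

variable {F : X.Modules}

/-- The local homomorphism given by a morphism into `cut U G`. -/
noncomputable def toLoc (t : F ⟶ cut U G) : LocHom F G U where
  app {W} hW := ((res G (le_image_preimage U hW)).comp (cutSec U G W)).comp
    (appS t W).toAddMonoidHom
  app_smul {W} hW a s := by
    change res G _ (cutSec U G W (appS t W (a • s))) = a • res G _ (cutSec U G W (appS t W s))
    rw [map_smul, cutSec_smul, res_smul, resO_resO, resO_self]
  app_res {W W'} hW h s := by
    change res G _ (cutSec U G W' (appS t W' (res F h s))) =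
      res G h (res G _ (cutSec U G W (appS t W s)))
    rw [appS_res, cutSec_res, res_res, res_res]

theorem toLoc_app (t : F ⟶ cut U G) {W : X.Opens} (hW : W ≤ U) (s : Sec F W) :
    (toLoc t).app hW s = res G (le_image_preimage U hW) (cutSec U G W (appS t W s)) := rfl

/-- The morphism into `cut U G` given by a local homomorphism, as a family. -/
noncomputable def ofLocTop (φ : LocHom F G U) : LocHom F (cut U G) ⊤ where
  app {W} _ := ((secCut U G W).comp (φ.app (image_preimage_le' W))).comp
    (res F (image_preimage_le U W))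
  app_smul {W} _ a s := by
    apply cutSec_injective
    rw [cutSec_smul]
    change φ.app _ (res F _ (a • s)) = _ • φ.app _ (res F _ s)
    rw [res_smul, φ.app_smul]
  app_res {W W'} _ h s := by
    apply cutSec_injective
    rw [cutSec_res]
    change φ.app _ (res F _ (res F h s)) = res G _ (φ.app _ (res F _ s))
    rw [← φ.app_res, res_res, res_res]

/-- The morphism into `cut U G` given by a local homomorphism. -/
noncomputable def ofLoc (φ : LocHom F G U) : F ⟶ cut U G := (ofLocTop φ).toHom

theorem ofLoc_app (φ : LocHom F G U) (W : X.Opens) (s : Sec F W) :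
    cutSec U G W (appS (ofLoc φ) W s) =
      φ.app (image_preimage_le' W) (res F (image_preimage_le U W) s) := by
  rw [ofLoc, LocHom.toHom_app]
  rfl

/-- Local homomorphisms are morphisms into `cut U G`. -/
noncomputable def cutEquiv : (F ⟶ cut U G) ≃+ LocHom F G U where
  toFun := toLoc
  invFun := ofLoc
  left_inv t := by
    apply hom_ext
    intro W s
    apply cutSec_injective
    rw [ofLoc_app, toLoc_app, appS_res, cutSec_res, res_res]
    have e : U.ι ''ᵁ (U.ι ⁻¹ᵁ (U.ι ''ᵁ (U.ι ⁻¹ᵁ W))) = U.ι ''ᵁ (U.ι ⁻¹ᵁ W) := by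
      rw [Scheme.Hom.preimage_image_eq]
    exact res_self _ _ _
  right_inv φ := by
    apply LocHom.ext'
    intro W hW s
    rw [toLoc_app, ofLoc_app, ← φ.app_res, res_res, res_self]
  map_add' t t' := by
    apply LocHom.ext'
    intro W hW s
    rw [LocHom.add_app, toLoc_app, toLoc_app, toLoc_app, appS_add, map_add, map_add]

theorem cutEquiv_app (t : F ⟶ cut U G) {W : X.Opens} (hW : W ≤ U) (s : Sec F W) :
    (cutEquiv t).app hW s = res G (le_image_preimage U hW) (cutSec U G W (appS t W s)) := rfl

end K696.Cut
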