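import Groth.Agent.Lift.K696.KapIso
import Groth.Agent.Lift.K696.SqZ

/-!
# The thickening attached to a global square-zero closed immersion
-/

set_option autoImplicit false
universe u

open CategoryTheory CategoryTheory.Limits AlgebraicGeometry Opposite TopologicalSpace
open Groth.Agent.Sga67.Sec
open K696.Base K696.IMod K696.Thk K696.KapIso

namespace K696.Glob

variable {X₀ X : Scheme.{u}} (j : X₀ ⟶ X) [IsClosedImmersion j] (hI : j.ker ^ 2 = ⊥)

instance isIso_top_ι : IsIso (⊤ : X₀.Opens).ι := by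
  rw [← X₀.topIso_hom]; infer_instance

/-- The thickening of the whole space attached to `j`. -/
noncomputable def thg (hI : j.ker ^ 2 = ⊥) : Th (⊤ : X₀.Opens) where
  X := X
  j := (⊤ : X₀.Opens).ι ≫ j
  cl := inferInstance
  su := by
    have := SqZ.surjective_of_sq j hI
    infer_instance

theorem ker_thg : (thg j hI).j.ker = j.ker := by
  change ((⊤ : X₀.Opens).ι ≫ j).ker = j.ker
  rw [Scheme.Hom.ker_comp_of_isIso]

theorem ker_thg_sq : (thg j hI).j.ker ^ 2 = ⊥ := by
  rw [ker_thg]; exact hI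

/-- `M|_⊤ ≅ j'^* idealMod`. -/
noncomputable def thgIso {M : X₀.Modules}
    (e : M ≅ (Scheme.Modules.pullback j).obj (ClSub.idealMod j.ker)) :
    M.restrict (⊤ : X₀.Opens).ι ≅
      (Scheme.Modules.pullback (thg j hI).j).obj (ClSub.idealMod (thg j hI).j.ker) :=
  (Scheme.Modules.restrictFunctorIsoPullback (⊤ : X₀.Opens).ι).app M ≪≫
    (Scheme.Modules.pullback (⊤ : X₀.Opens).ι).mapIso e ≪≫
    (Scheme.Modules.pullbackComp (⊤ : X₀.Opens).ι j).app _ ≪≫
    (Scheme.Modules.pullback (thg j hI).j).mapIso (eqToIso (by rw [ker_thg]; rfl))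

/-- The identification of the kernel. -/
noncomputable def kapg {M : X₀.Modules}
    (e : M ≅ (Scheme.Modules.pullback j).obj (ClSub.idealMod j.ker)) : Kap (thg j hI) M :=
  kapOfConormal (thg j hI) (ker_thg_sq j hI) (thgIso j hI e)

end K696.Glob
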