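import Groth.Agent.Lift.K696.IMod
import Groth.Agent.Lift.K696.Cut
import Groth.Agent.Lift.K696.Thk

/-!
# Identifications of the kernel of a thickening

`kapOfIso T M ψ` for `ψ : j_* (M|_U) ≅ idealMod j.ker`; `kapOfConormal` for `M|_U ≅ j^* (idealMod j.ker)` when the
kernel has square zero.
-/

set_option autoImplicit false
universe u

open CategoryTheory CategoryTheory.Limits AlgebraicGeometry Opposite TopologicalSpace
open Groth.Agent.Sga67.Sec
open K696.Base K696.IMod K696.Thk K696.Cut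

namespace K696.KapIso

variable {X₀ : Scheme.{u}} {U : X₀.Opens} (T : Th U) (M : X₀.Modules)

/-- `j_* (M|_U)`. -/
noncomputable def pm : T.X.Modules := (Scheme.Modules.pushforward T.j).obj (M.restrict U.ι)

/-- Sections of `j_* (M|_U)`. -/
noncomputable def pmSec (V : T.X.Opens) : Sec (pm T M) V →+ Sec M (U.ι ''ᵁ (T.j ⁻¹ᵁ V)) :=
  AddMonoidHom.mk' (fun s => s) fun _ _ => rfl

/-- Sections of `j_* (M|_U)`. -/
noncomputable def secPm (V : T.X.Opens) : Sec M (U.ι ''ᵁ (T.j ⁻¹ᵁ V)) →+ Sec (pm T M) V :=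
  AddMonoidHom.mk' (fun s => s) fun _ _ => rfl

theorem pmSec_secPm (V : T.X.Opens) (s : Sec M (U.ι ''ᵁ (T.j ⁻¹ᵁ V))) :
    pmSec T M V (secPm T M V s) = s := rfl

theorem secPm_pmSec (V : T.X.Opens) (s : Sec (pm T M) V) : secPm T M V (pmSec T M V s) = s := rfl

theorem pmSec_injective (V : T.X.Opens) : Function.Injective (pmSec T M V) := fun _ _ h => h

theorem image_preimage_im_le (W : X₀.Opens) : U.ι ''ᵁ (T.j ⁻¹ᵁ T.im W) ≤ W := by
  rw [Th.im, Base.preimage_im]
  exact image_preimage_le U W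

theorem le_image_preimage_im {W : X₀.Opens} (h : W ≤ U) : W ≤ U.ι ''ᵁ (T.j ⁻¹ᵁ T.im W) := by
  rw [Th.im, Base.preimage_im]
  exact le_image_preimage U h

theorem image_preimage_le' (V : T.X.Opens) : U.ι ''ᵁ (T.j ⁻¹ᵁ V) ≤ U := by
  rintro _ ⟨x, -, rfl⟩
  exact x.2

theorem pmSec_res {V V' : T.X.Opens} (h : V' ≤ V) (s : Sec (pm T M) V) :
    pmSec T M V' (res (pm T M) h s) =
      res M (U.ι.image_mono (T.j.preimage_mono h)) (pmSec T M V s) := rfl

theorem pmSec_smul (V : T.X.Opens) (a : Γ(T.X, V)) (s : Sec (pm T M) V) :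
    pmSec T M V (a • s) = (U.ι.appIso (T.j ⁻¹ᵁ V)).inv (T.j.app V a) • pmSec T M V s := rfl

/-- `j_* (M|_U)`: the action of `a` on a section over `im W`. -/
theorem res_pmSec_smul {W : X₀.Opens} (h : W ≤ U) (a : Γ(T.X, T.im W)) (s : Sec (pm T M) (T.im W)) :
    res M (le_image_preimage_im T h) (pmSec T M _ (a • s)) =
      T.π h a • res M (le_image_preimage_im T h) (pmSec T M _ s) := by
  rw [pmSec_smul, res_smul]
  congr 1
  have h1 : ∀ (V : U.toScheme.Opens) (hV : V = U.ι ⁻¹ᵁ W) (b : Γ(U.toScheme, V))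
      (h2 : W ≤ U.ι ''ᵁ V),
      resO X₀ h2 ((U.ι.appIso V).inv b) = down U h (resO U.toScheme hV.ge b) := by
    intro V hV b h2
    subst hV
    rw [resO_self, Scheme.Opens.ι_appIso]
    rfl
  refine (h1 _ (Base.preimage_im T.j _) _ _).trans ?_
  rw [Th.π_apply, ev_eq]
  rfl

variable {M}

section ofIso

variable (ψ : pm T M ≅ ClSub.idealMod T.j.ker)

/-- The kernel identification attached to an isomorphism `j_* (M|_U) ≅ idealMod j.ker`. -/
noncomputable def kfun {W : X₀.Opens} (_h : W ≤ U) : Sec M W →+ Γ(T.X, T.im W) :=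
  ((ival T.j.ker (T.im W)).comp (appS ψ.hom (T.im W)).toAddMonoidHom).comp
    ((secPm T M (T.im W)).comp (res M (image_preimage_im_le T W)))

theorem kfun_apply {W : X₀.Opens} (h : W ≤ U) (m : Sec M W) :
    kfun T ψ h m = ival T.j.ker (T.im W)
      (appS ψ.hom (T.im W) (secPm T M (T.im W) (res M (image_preimage_im_le T W) m))) := rfl

theorem kfun_res_pmSec {W : X₀.Opens} (h : W ≤ U) (s : Sec (pm T M) (T.im W)) :
    kfun T ψ h (res M (le_image_preimage_im T h) (pmSec T M _ s)) =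
      ival T.j.ker (T.im W) (appS ψ.hom (T.im W) s) := by
  rw [kfun_apply, res_res, res_self, secPm_pmSec]

theorem exists_pmSec {W : X₀.Opens} (h : W ≤ U) (m : Sec M W) :
    ∃ s : Sec (pm T M) (T.im W), res M (le_image_preimage_im T h) (pmSec T M _ s) = m :=
  ⟨secPm T M (T.im W) (res M (image_preimage_im_le T W) m), by
    rw [pmSec_secPm, res_res, res_self]⟩

/-- The kernel identification attached to an isomorphism `j_* (M|_U) ≅ idealMod j.ker`. -/
noncomputable def kapOfIso : Kap T M where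
  κ h := kfun T ψ h
  res_κ {W W'} h hW m := by
    rw [kfun_apply, kfun_apply, ← ival_res, ← appS_res]
    congr 2
    apply pmSec_injective
    rw [pmSec_res, pmSec_secPm, pmSec_secPm, res_res, res_res]
  inj {W} h m hm := by
    obtain ⟨s, rfl⟩ := exists_pmSec T h m
    rw [kfun_res_pmSec] at hm
    have h1 := (injective_iff_map_eq_zero (ival T.j.ker (T.im W))).1 (ival_injective _ _) _ hm
    have h2 : s = 0 := by
      have h3 : appS ψ.inv (T.im W) (appS ψ.hom (T.im W) s) = s := by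
        rw [← appS_comp, ψ.hom_inv_id, appS_id]
      rw [← h3, h1, map_zero]
    rw [h2, map_zero, map_zero]
  π_κ {W} h m := by
    rw [Th.π_apply]
    have h1 := (ev_eq_zero_iff T.j (V := T.im W) (W := U.ι ⁻¹ᵁ W) (Base.preimage_im T.j _)
      (kfun T ψ h m)).2 ⟨_, rfl⟩
    rw [h1, map_zero]
  ex {W} h a ha := by
    rw [Th.π_apply] at ha
    have h1 := (injective_iff_map_eq_zero (down U h)).1 (down_injective U h) _ ha
    obtain ⟨c, hc⟩ := (ev_eq_zero_iff T.j (V := T.im W) (W := U.ι ⁻¹ᵁ W)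
      (Base.preimage_im T.j _) a).1 h1
    refine ⟨res M (le_image_preimage_im T h) (pmSec T M _ (appS ψ.inv (T.im W) c)), ?_⟩
    rw [kfun_res_pmSec, ← appS_comp, ψ.inv_hom_id, appS_id, hc]
  smul {W} h a m := by
    obtain ⟨s, rfl⟩ := exists_pmSec T h m
    rw [← res_pmSec_smul, kfun_res_pmSec, kfun_res_pmSec, map_smul, ival_smul]

theorem kapOfIso_κ_res_pmSec {W : X₀.Opens} (h : W ≤ U) (s : Sec (pm T M) (T.im W)) :
    (kapOfIso T ψ).κ h (res M (le_image_preimage_im T h) (pmSec T M _ s)) =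
      ival T.j.ker (T.im W) (appS ψ.hom (T.im W) s) := kfun_res_pmSec T ψ h s

end ofIso

/-- `idealMod j.ker ≅ j_* (j^* idealMod j.ker)` for a square-zero closed immersion. -/
theorem isIso_unit_idealMod (hI : T.j.ker ^ 2 = ⊥) :
    IsIso ((Scheme.Modules.pullbackPushforwardAdjunction T.j).unit.app
      (ClSub.idealMod T.j.ker)) :=
  Groth.Agent.Ega1.ClosedKill.Kills.isIso_unit T.j (kills_idealMod _ hI)

/-- `idealMod j.ker ≅ j_* j^* idealMod j.ker`. -/
noncomputable def uIso (hI : T.j.ker ^ 2 = ⊥) : ClSub.idealMod T.j.ker ≅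
    (Scheme.Modules.pushforward T.j).obj
      ((Scheme.Modules.pullback T.j).obj (ClSub.idealMod T.j.ker)) :=
  haveI := isIso_unit_idealMod T hI
  asIso ((Scheme.Modules.pullbackPushforwardAdjunction T.j).unit.app (ClSub.idealMod T.j.ker))

theorem uIso_hom (hI : T.j.ker ^ 2 = ⊥) : (uIso T hI).hom =
    (Scheme.Modules.pullbackPushforwardAdjunction T.j).unit.app (ClSub.idealMod T.j.ker) := rfl

/-- `j_* θ`. -/
noncomputable def tIso
    (θ : M.restrict U.ι ≅ (Scheme.Modules.pullback T.j).obj (ClSub.idealMod T.j.ker)) :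
    pm T M ≅ (Scheme.Modules.pushforward T.j).obj
      ((Scheme.Modules.pullback T.j).obj (ClSub.idealMod T.j.ker)) :=
  (Scheme.Modules.pushforward T.j).mapIso θ

/-- The isomorphism `j_* (M|_U) ≅ idealMod j.ker`. -/
noncomputable def isoOfConormal (hI : T.j.ker ^ 2 = ⊥)
    (θ : M.restrict U.ι ≅ (Scheme.Modules.pullback T.j).obj (ClSub.idealMod T.j.ker)) :
    pm T M ≅ ClSub.idealMod T.j.ker :=
  tIso T θ ≪≫ (uIso T hI).symm

/-- The kernel identification attached to `M|_U ≅ j^* (idealMod j.ker)`. -/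
noncomputable def kapOfConormal (hI : T.j.ker ^ 2 = ⊥)
    (θ : M.restrict U.ι ≅ (Scheme.Modules.pullback T.j).obj (ClSub.idealMod T.j.ker)) :
    Kap T M := kapOfIso T (isoOfConormal T hI θ)

/-- The section of `j_* M` attached to a section of the ideal. -/
noncomputable def conSec
    (θ : M.restrict U.ι ≅ (Scheme.Modules.pullback T.j).obj (ClSub.idealMod T.j.ker))
    (V : T.X.Opens) : Sec (ClSub.idealMod T.j.ker) V →+ Sec M (U.ι ''ᵁ (T.j ⁻¹ᵁ V)) :=
  ((pmSec T M V).comp (appS (tIso T θ).inv V).toAddMonoidHom).comp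
    ((Scheme.Modules.pullbackPushforwardAdjunction T.j).unit.app (ClSub.idealMod T.j.ker)
      |>.app V).hom

/-- The characterization of `kapOfConormal`. -/
theorem kapOfConormal_κ (hI : T.j.ker ^ 2 = ⊥)
    (θ : M.restrict U.ι ≅ (Scheme.Modules.pullback T.j).obj (ClSub.idealMod T.j.ker))
    {W : X₀.Opens} (h : W ≤ U) (c : Sec (ClSub.idealMod T.j.ker) (T.im W)) :
    (kapOfConormal T hI θ).κ h (res M (le_image_preimage_im T h) (conSec T θ (T.im W) c)) =
      ival T.j.ker (T.im W) c := by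
  refine (kapOfIso_κ_res_pmSec T (isoOfConormal T hI θ) h
    (appS (tIso T θ).inv (T.im W) (appS (uIso T hI).hom (T.im W) c))).trans ?_
  congr 1
  have h1 : (uIso T hI).hom ≫ (tIso T θ).inv ≫ (isoOfConormal T hI θ).hom = 𝟙 _ := by
    rw [isoOfConormal, Iso.trans_hom, Iso.symm_hom, Iso.inv_hom_id_assoc, Iso.hom_inv_id]
  exact (congrArg (fun k => appS k (T.im W) c) h1).trans (appS_id _ _ _)

end K696.KapIso
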